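/-
An elementary subgroup `W(S)` for solvable `S₄`-free groups (helper70): the counting arguments.

In namespace `Cfsg.Agent.StellmacherW`:
* `exists_prime_power_act`: an element of odd order has a power acting with prime order
* `involves_of_mv_le_two`: an involution inverting an element of odd order moves more than half
* `involves_of_counting`: the congruence argument, which forces an element of order three
-/
import Cfsg.Agent.Lib.StellmacherW.Basic
import Cfsg.Agent.Lib.SFourOffender.Basic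

set_option autoImplicit false
set_option linter.style.haveILetI false

namespace Cfsg.Agent.StellmacherW

open Subgroup

variable {G : Type*} [Group G] [Finite G]

theorem exists_prime_power_act {V : Subgroup G} {t : G} (ht : Odd (orderOf t))
    (hne : t ∉ centralizer (V : Set G)) :
    ∃ n q : ℕ, q.Prime ∧ q ≠ 2 ∧ (t ^ n) ^ q ∈ centralizer (V : Set G) ∧
      t ^ n ∉ centralizer (V : Set G) := by
  classical
  set C := centralizer (V : Set G)
  have hex : ∃ d, 0 < d ∧ t ^ d ∈ C :=
    ⟨orderOf t, orderOf_pos t, by rw [pow_orderOf_eq_one]; exact one_mem _⟩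
  obtain ⟨hd0, hdC⟩ := Nat.find_spec hex
  set d := Nat.find hex
  have hd1 : d ≠ 1 := fun e => hne (by rwa [e, pow_one] at hdC)
  have hdvd : d ∣ orderOf t := by
    refine Nat.dvd_of_mod_eq_zero (by_contra fun h => ?_)
    refine Nat.find_min hex (Nat.mod_lt _ hd0) ⟨Nat.pos_of_ne_zero h, ?_⟩
    have e : t ^ (d * (orderOf t / d)) * t ^ (orderOf t % d) = 1 := by
      rw [← pow_add, Nat.div_add_mod, pow_orderOf_eq_one]
    rw [eq_inv_of_mul_eq_one_right e]
    refine C.inv_mem ?_
    rw [pow_mul]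
    exact C.pow_mem hdC _
  refine ⟨d / d.minFac, d.minFac, Nat.minFac_prime hd1, fun e => ?_, ?_, fun h => ?_⟩
  · have h2 : Odd (d.minFac) := Odd.of_dvd_nat ht (d.minFac_dvd.trans hdvd)
    rw [e] at h2
    exact absurd h2 (by decide)
  · rwa [← pow_mul, Nat.div_mul_cancel d.minFac_dvd]
  · have hlt : d / d.minFac < d := Nat.div_lt_self hd0 (Nat.minFac_prime hd1).one_lt
    exact Nat.find_min hex hlt ⟨Nat.div_pos (Nat.minFac_le hd0) (Nat.minFac_prime hd1).pos, h⟩

omit [Finite G] in
theorem inv_pow_act {V : Subgroup G} {a t : G} (ht : t ∈ normalizer (V : Set G))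
    (hinv : a * t * a⁻¹ * t ∈ centralizer (V : Set G)) (n : ℕ) :
    a * t ^ n * a⁻¹ * t ^ n ∈ centralizer (V : Set G) := by
  induction n with
  | zero => simp
  | succ n ih =>
    have h := mul_mem hinv (centralizer_normalizer ((normalizer (V : Set G)).inv_mem ht) ih)
    have e : a * t ^ (n + 1) * a⁻¹ * t ^ (n + 1)
        = (a * t * a⁻¹ * t) * (t⁻¹ * (a * t ^ n * a⁻¹ * t ^ n) * t⁻¹⁻¹) := by
      conv_lhs => arg 1; arg 1; arg 2; rw [pow_succ']
      rw [pow_succ]
      group
    rw [e]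
    exact h

omit [Finite G] in
/-- An element fixed by a power prime to its order on `V`. -/
theorem fix_of_pow_fix {V : Subgroup G} {s : G} {q k : ℕ} (hk : q.Coprime k)
    (hsq : s ^ q ∈ centralizer (V : Set G)) {v : G} (hv : v ∈ V) (h : s ^ k * v * (s ^ k)⁻¹ = v) :
    s * v * s⁻¹ = v := by
  have hz : s ∈ centralizer ({v} : Set G) := by
    have h1 : s ^ q ∈ centralizer ({v} : Set G) :=
      mem_centralizer_singleton_iff.2 (mem_centralizer_iff.1 hsq v hv).symm
    have h2 : s ^ k ∈ centralizer ({v} : Set G) :=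
      mem_centralizer_singleton_iff.2 (mul_inv_eq_iff_eq_mul.1 h)
    have h3 := mul_mem ((centralizer ({v} : Set G)).zpow_mem h1 (Nat.gcdA q k))
      ((centralizer ({v} : Set G)).zpow_mem h2 (Nat.gcdB q k))
    rw [← zpow_natCast s q, ← zpow_natCast s k, ← zpow_mul, ← zpow_mul, ← zpow_add,
      ← Nat.gcd_eq_gcd_ab, hk.gcd_eq_one, Nat.cast_one, zpow_one] at h3
    exact h3
  rw [(mem_centralizer_singleton_iff.1 hz), mul_inv_cancel_right]

/-- The endomorphism `v ↦ [s, v]`. -/
def comEnd {V : Subgroup G} (hV : IsMulCommutative V) {s : G} (hs : s ∈ normalizer (V : Set G)) :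
    V →* V where
  toFun v := ⟨s * v * s⁻¹ * (v : G)⁻¹, V.mul_mem (conj_mem hs v.2) (V.inv_mem v.2)⟩
  map_one' := Subtype.ext (by simp)
  map_mul' v w := Subtype.ext (by
    haveI := hV
    show s * ((v : G) * w) * s⁻¹ * ((v : G) * w)⁻¹
      = (s * v * s⁻¹ * (v : G)⁻¹) * (s * w * s⁻¹ * (w : G)⁻¹)
    have hc : (v : G)⁻¹ * (s * w * s⁻¹ * (w : G)⁻¹) = (s * w * s⁻¹ * (w : G)⁻¹) * (v : G)⁻¹ :=
      setLike_mul_comm (V.inv_mem v.2) (V.mul_mem (conj_mem hs w.2) (V.inv_mem w.2))
    calc s * ((v : G) * w) * s⁻¹ * ((v : G) * w)⁻¹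
        = s * v * s⁻¹ * ((s * w * s⁻¹ * (w : G)⁻¹) * (v : G)⁻¹) := by group
      _ = _ := by rw [← hc]; group)

/-- Orbits of an automorphism of prime order with one fixed point. -/
theorem modEq_one_of_unique_fixed {X : Type*} [Finite X] {q : ℕ} [Fact q.Prime] (σ : Equiv.Perm X)
    (hσ : σ ^ q = 1) (x₀ : X) (h : ∀ x, σ x = x ↔ x = x₀) : Nat.card X ≡ 1 [MOD q] := by
  classical
  have := Fintype.ofFinite X
  rw [Nat.card_eq_fintype_card]
  have h1 := Equiv.Perm.card_compl_support_modEq (p := q) (n := 1) (σ := σ) (by rwa [pow_one])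
  refine h1.symm.trans ?_
  have : σ.supportᶜ = {x₀} := by
    ext x
    simp [Equiv.Perm.mem_support, h x]
  rw [this, Finset.card_singleton]

/-- The image of `[s, -]` and the fixed points of an element acting with odd prime order. -/
theorem split_act {V : Subgroup G} (hV : Cfsg.IsElementaryAbelian 2 V) {s : G} {q : ℕ}
    [Fact q.Prime] (hq2 : q ≠ 2) (hs : s ∈ normalizer (V : Set G))
    (hsq : s ^ q ∈ centralizer (V : Set G)) :
    ∃ V1 : Subgroup G, V1 ≤ V ∧ V1 ⊓ centralizer ({s} : Set G) = ⊥ ∧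
      V ⊓ centralizer ({s} : Set G) ⊔ V1 = V ∧
      Nat.card V1 = (centralizer ({s} : Set G)).relIndex V ∧ Nat.card V1 ≡ 1 [MOD q] ∧
      (∀ x ∈ V1, ∃ v ∈ V, s * v * s⁻¹ * v⁻¹ = x) := by
  haveI := hV.1
  set φ := comEnd hV.1 hs
  have hdesc : ∀ x ∈ φ.range.map V.subtype, ∃ v ∈ V, s * v * s⁻¹ * v⁻¹ = x := by
    rintro _ ⟨_, ⟨v, rfl⟩, rfl⟩
    exact ⟨v, v.2, rfl⟩
  have hfix : ∀ x ∈ φ.range.map V.subtype, s * x * s⁻¹ = x → x = 1 := by
    intro x hx hsx
    obtain ⟨v, hv, rfl⟩ := hdesc x hx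
    set x := s * v * s⁻¹ * v⁻¹
    have hxV : x ∈ V := V.mul_mem (conj_mem hs hv) (V.inv_mem hv)
    have hpow : ∀ i : ℕ, s ^ i * v * (s ^ i)⁻¹ = x ^ i * v := by
      intro i
      induction i with
      | zero => simp
      | succ i ih =>
        calc s ^ (i + 1) * v * (s ^ (i + 1))⁻¹ = s * (s ^ i * v * (s ^ i)⁻¹) * s⁻¹ := by
              rw [pow_succ']; group
          _ = (s * x * s⁻¹) ^ i * (s * v * s⁻¹) := by rw [ih, conj_pow]; group
          _ = x ^ i * (x * v) := by rw [hsx, show s * v * s⁻¹ = x * v from (inv_mul_cancel_right _ v).symm]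
          _ = x ^ (i + 1) * v := by rw [pow_succ]; exact (mul_assoc _ _ _).symm
    have h1 := hpow q
    rw [fix_of_mem_centralizer hsq hv] at h1
    have h2 : x ^ q = 1 := mul_right_cancel (b := v) (by rw [one_mul]; exact h1.symm)
    obtain ⟨k, hk⟩ := (Fact.out : q.Prime).odd_of_ne_two hq2
    rw [hk, pow_add, pow_mul, hV.2 x hxV, one_pow, one_mul, pow_one] at h2
    exact h2
  have hker : φ.ker = (centralizer ({s} : Set G)).subgroupOf V := by
    ext v
    rw [MonoidHom.mem_ker, mem_subgroupOf, mem_centralizer_singleton_iff, Subtype.ext_iff]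
    show s * (v : G) * s⁻¹ * (v : G)⁻¹ = 1 ↔ _
    rw [mul_inv_eq_one, mul_inv_eq_iff_eq_mul]
    exact eq_comm
  have hle : φ.range.map V.subtype ≤ V := map_subtype_le _
  have hcard : Nat.card (φ.range.map V.subtype : Subgroup G)
      = (centralizer ({s} : Set G)).relIndex V := by
    rw [Nat.card_congr (equivMapOfInjective _ _ V.subtype_injective).symm.toEquiv, relIndex, ← hker,
      Subgroup.index_ker]
  have hinf : φ.range.map V.subtype ⊓ centralizer ({s} : Set G) = ⊥ := by
    refine eq_bot_iff.2 fun x hx => mem_bot.2 (hfix x hx.1 ?_)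
    rw [← mem_centralizer_singleton_iff.1 hx.2, mul_inv_cancel_right]
  refine ⟨φ.range.map V.subtype, hle, hinf, ?_, hcard, ?_, hdesc⟩
  · refine eq_of_le_of_card_ge (sup_le inf_le_left hle) ?_
    have h3 := PLocal.card_sup_mul_card_inf (H := V ⊓ centralizer ({s} : Set G))
      (K := φ.range.map V.subtype) (fun x hx => centralizer_le_normalizer _
        (mem_centralizer_iff.2 fun y hy => setLike_mul_comm hy.1 (hle hx)))
    rw [show V ⊓ centralizer ({s} : Set G) ⊓ φ.range.map V.subtype = ⊥ from eq_bot_iff.2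
      ((le_inf inf_le_right (inf_le_left.trans inf_le_right)).trans hinf.le), card_bot, mul_one,
      hcard] at h3
    rw [h3, ← inf_comm (centralizer ({s} : Set G)) V]
    have h4 := ((centralizer ({s} : Set G)).subgroupOf V).card_mul_index
    rw [← inf_subgroupOf_right, Nat.card_congr (subgroupOfEquivOfLe inf_le_right).toEquiv,
      inf_subgroupOf_right] at h4
    exact h4.ge
  · have hst : ∀ x ∈ φ.range.map V.subtype, s * x * s⁻¹ ∈ φ.range.map V.subtype := by
      intro x hx
      obtain ⟨v, hv, rfl⟩ := hdesc x hx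
      refine ⟨φ ⟨s * v * s⁻¹, conj_mem hs hv⟩, ⟨_, rfl⟩, ?_⟩
      show s * (s * v * s⁻¹) * s⁻¹ * (s * v * s⁻¹)⁻¹ = _
      group
    let f : φ.range.map V.subtype → φ.range.map V.subtype := fun x => ⟨s * x * s⁻¹, hst x x.2⟩
    have hf : Function.Bijective f := (Finite.injective_iff_bijective).1 fun x y h => by
      have h' := congrArg Subtype.val h
      exact Subtype.ext (mul_left_cancel (mul_right_cancel h'))
    refine modEq_one_of_unique_fixed (Equiv.ofBijective f hf) ?_ 1 fun x => ⟨fun h => ?_, fun h => ?_⟩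
    · have hpow : ∀ i : ℕ, ∀ x, (((Equiv.ofBijective f hf) ^ i) x : G) = s ^ i * x * (s ^ i)⁻¹ := by
        intro i
        induction i with
        | zero => intro x; simp
        | succ i ih =>
          intro x
          rw [pow_succ', Equiv.Perm.mul_apply]
          show s * _ * s⁻¹ = _
          rw [ih, pow_succ']
          group
      refine Equiv.ext fun x => Subtype.ext ?_
      rw [hpow, fix_of_mem_centralizer hsq (hle x.2)]
      rfl
    · exact Subtype.ext (hfix x x.2 (congrArg Subtype.val h))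
    · subst h
      exact Subtype.ext (by show s * 1 * s⁻¹ = 1; group)

/-- An element of order three inverted by an involution gives `S₄`. -/
theorem involves_of_three {V : Subgroup G} (hV : Cfsg.IsElementaryAbelian 2 V) {a s : G} {q : ℕ}
    (ha : a ∈ normalizer (V : Set G)) (ha2 : a * a ∈ centralizer (V : Set G))
    (hs : s ∈ normalizer (V : Set G)) (hinv : a * s * a⁻¹ * s ∈ centralizer (V : Set G))
    (hsq : s ^ q ∈ centralizer (V : Set G)) (hs1 : s ∉ centralizer (V : Set G)) (hq : q = 3) :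
    Cfsg.Involves (Equiv.Perm (Fin 4)) G :=
  SFourOffender.involves_of_inverting_action (isPGroup_elemAb hV) ha hs ha2 (hq ▸ hsq) hinv hs1

/-- An involution inverting an element of odd order moves more than half of `V`. -/
theorem involves_of_mv_le_two {V : Subgroup G} (hV : Cfsg.IsElementaryAbelian 2 V) {a t : G}
    (ha : a ∈ normalizer (V : Set G)) (ha2 : a * a ∈ centralizer (V : Set G))
    (ht : t ∈ normalizer (V : Set G)) (hinv : a * t * a⁻¹ * t ∈ centralizer (V : Set G))
    (hodd : Odd (orderOf t)) (hne : t ∉ centralizer (V : Set G))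
    (hle : (centralizer ({a} : Set G)).relIndex V ≤ 2) :
    Cfsg.Involves (Equiv.Perm (Fin 4)) G := by
  obtain ⟨n, q, hq, hq2, hsq, hs1⟩ := exists_prime_power_act hodd hne
  haveI : Fact q.Prime := ⟨hq⟩
  set s := t ^ n
  have hs : s ∈ normalizer (V : Set G) := pow_mem ht n
  have hsinv : a * s * a⁻¹ * s ∈ centralizer (V : Set G) := inv_pow_act ht hinv n
  obtain ⟨V1, hV1, -, -, hcard, hmod, -⟩ := split_act hV hq2 hs hsq
  refine involves_of_three hV ha ha2 hs hsinv hsq hs1 ?_
  -- the common fixed points of `a` and its conjugate under `s` are fixed by `s`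
  set F := centralizer ({a} : Set G)
  set F' := centralizer ({s * a * s⁻¹} : Set G)
  have hFF : F ⊓ F' ⊓ V ≤ centralizer ({s} : Set G) ⊓ V := by
    rintro v ⟨⟨hva, hva'⟩, hv⟩
    refine ⟨mem_centralizer_singleton_iff.2 ?_, hv⟩
    have h1 : a * v * a⁻¹ = v := by
      rw [← mem_centralizer_singleton_iff.1 hva, mul_inv_cancel_right]
    have h2 : (s * a * s⁻¹) * v * (s * a * s⁻¹)⁻¹ = v := by
      rw [← mem_centralizer_singleton_iff.1 hva', mul_inv_cancel_right]
    have hc : (s ^ 2)⁻¹ * (s * a * s⁻¹ * a) ∈ centralizer (V : Set G) := by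
      have h5 := (centralizer (V : Set G)).inv_mem hsinv
      have h6 := mul_mem h5 ha2
      convert h6 using 1
      group
    have h3 : s ^ 2 * v * (s ^ 2)⁻¹ = v := by
      rw [conj_congr hc hv]
      calc s * a * s⁻¹ * a * v * (s * a * s⁻¹ * a)⁻¹
          = (s * a * s⁻¹) * (a * v * a⁻¹) * (s * a * s⁻¹)⁻¹ := by group
        _ = v := by rw [h1, h2]
    have h7 := fix_of_pow_fix ((Nat.coprime_primes hq Nat.prime_two).2 hq2) hsq hv h3
    exact (mul_inv_eq_iff_eq_mul.1 h7).symm
  have hmap : F'.relIndex V = F.relIndex V := by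
    have e1 : F' = F.map (MulAut.conj s).toMonoidHom := by
      ext x
      rw [mem_centralizer_singleton_iff, mem_map_equiv, mem_centralizer_singleton_iff]
      rw [MulAut.conj_symm_apply]
      constructor
      · intro h
        calc s⁻¹ * x * s * a = s⁻¹ * (x * (s * a * s⁻¹)) * s := by group
          _ = _ := by rw [h]; group
      · intro h
        calc x * (s * a * s⁻¹) = s * ((s⁻¹ * x * s) * a) * s⁻¹ := by group
          _ = _ := by rw [h]; group
    have e2 : V.map (MulAut.conj s).toMonoidHom = V := by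
      refine eq_of_le_of_card_ge ?_ (card_map_of_injective (MulAut.conj s).injective).ge
      rintro _ ⟨v, hv, rfl⟩
      exact conj_mem hs hv
    calc F'.relIndex V = (F.map (MulAut.conj s).toMonoidHom).relIndex (V.map (MulAut.conj s).toMonoidHom) := by
          rw [e1, e2]
      _ = F.relIndex V := relIndex_map_map_of_injective _ _ (MulAut.conj s).injective
  have hV1le : Nat.card V1 ≤ 4 := by
    rw [hcard, ← inf_relIndex_right]
    refine (relIndex_le_of_le_left hFF Subgroup.index_ne_zero_of_finite).trans ?_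
    rw [inf_relIndex_right]
    exact (relIndex_inf_le).trans (Nat.mul_le_mul hle (hmap.le.trans hle))
  have hV1gt : 1 < Nat.card V1 := by
    rw [hcard]
    refine lt_of_le_of_ne (Nat.pos_of_ne_zero Subgroup.index_ne_zero_of_finite) fun e => hs1 ?_
    refine mem_centralizer_iff.2 fun v hv => ?_
    exact mem_centralizer_singleton_iff.1 (relIndex_eq_one.1 e.symm hv)
  obtain ⟨m, hm⟩ := mv_pow (⊥ : Subgroup G) (isPGroup_elemAb hV)
  obtain ⟨j, hj⟩ : ∃ j, Nat.card V1 = 2 ^ j := IsPGroup.iff_card.1 ((isPGroup_elemAb hV).to_le hV1)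
  have hj2 : j ≤ 2 := (Nat.pow_le_pow_iff_right one_lt_two).1 (hj ▸ hV1le)
  have hdvd : q ∣ Nat.card V1 - 1 := (Nat.modEq_iff_dvd' hV1gt.le).1 hmod.symm
  rw [hj] at hdvd hV1gt
  interval_cases j
  · simp at hV1gt
  · exact absurd (Nat.dvd_one.1 hdvd) hq.one_lt.ne'
  · exact (Nat.prime_dvd_prime_iff_eq hq Nat.prime_three).1 hdvd

/-- **The congruence argument.** -/
theorem involves_of_counting {R V U M : Subgroup G} {a s : G} {q : ℕ} [Fact q.Prime]
    (hV : Cfsg.IsElementaryAbelian 2 V) (hq2 : q ≠ 2) (ha : a ∈ normalizer (V : Set G))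
    (ha2 : a * a ∈ centralizer (V : Set G)) (hs : s ∈ normalizer (V : Set G))
    (hinv : a * s * a⁻¹ * s ∈ centralizer (V : Set G)) (hsq : s ^ q ∈ centralizer (V : Set G))
    (hs1 : s ∉ centralizer (V : Set G)) (hU : U ≤ V) (hsU : ∀ u ∈ U, s * u * s⁻¹ = u)
    (hMs : ∀ m ∈ M, s * m * s⁻¹ ∈ M) (hMU : ∀ m ∈ M, ∀ u ∈ U, m * u * m⁻¹ = u)
    (hMV : ∀ m ∈ M, ∀ v ∈ V, m * v * m⁻¹ * v⁻¹ ∈ U) (hMR : M ≤ R) (hnoff : NoOff R V)
    (hMC : ¬ M ≤ centralizer (V : Set G)) (hbound : U.relIndex V ≤ 4 * mv V M) :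
    Cfsg.Involves (Equiv.Perm (Fin 4)) G := by
  refine involves_of_three hV ha ha2 hs hinv hsq hs1 ?_
  have hq : q.Prime := Fact.out
  haveI := hV.1
  have hMN : M ≤ normalizer (V : Set G) := fun m hm => Coprime.mem_normalizer_of_forall fun v hv => by
    have := V.mul_mem (hU (hMV m hm v hv)) hv
    rwa [inv_mul_cancel_right] at this
  have hact : ElemAct V M := ⟨hMN, fun m hm => mem_centralizer_of_fix fun v hv => by
    have h1 := hMV m hm v hv
    calc m * m * v * (m * m)⁻¹ = m * ((m * v * m⁻¹ * v⁻¹) * v) * m⁻¹ := by group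
      _ = (m * (m * v * m⁻¹ * v⁻¹) * m⁻¹) * (m * v * m⁻¹) := by group
      _ = (m * v * m⁻¹ * v⁻¹) * ((m * v * m⁻¹ * v⁻¹) * v) := by rw [hMU m hm _ h1]; group
      _ = v := by rw [← mul_assoc, elemAb_mul_self hV (hU h1), one_mul]⟩
  obtain ⟨V1, hV1, hinf, hsup, hcard1, hmod1, hdesc⟩ := split_act hV hq2 hs hsq
  set V0 := V ⊓ centralizer ({s} : Set G)
  have hV0fix : ∀ v ∈ V0, s * v * s⁻¹ = v := fun v hv => by
    rw [← mem_centralizer_singleton_iff.1 hv.2, mul_inv_cancel_right]
  have hUV0 : U ≤ V0 := fun u hu =>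
    ⟨hU hu, mem_centralizer_singleton_iff.2 (mul_inv_eq_iff_eq_mul.1 (hsU u hu)).symm⟩
  -- the two parts of `M`
  set M0 := M ⊓ centralizer (V1 : Set G)
  set M1 := M ⊓ centralizer (V0 : Set G)
  have hpres : ∀ m ∈ M, ∀ v ∈ V, (s * m * s⁻¹) * (s * v * s⁻¹) * (s * m * s⁻¹)⁻¹
      = (m * v * m⁻¹ * v⁻¹) * (s * v * s⁻¹) := by
    intro m hm v hv
    calc (s * m * s⁻¹) * (s * v * s⁻¹) * (s * m * s⁻¹)⁻¹
        = (s * (m * v * m⁻¹ * v⁻¹) * s⁻¹) * (s * v * s⁻¹) := by group
      _ = _ := by rw [hsU _ (hMV m hm v hv)]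
  have hsplit : M ≤ M1 ⊔ M0 := by
    intro m hm
    let f : ℕ → G := fun j => Nat.rec 1 (fun i x => x * (s ^ i * m * (s ^ i)⁻¹)) j
    have hfM : ∀ j, f j ∈ M := fun j => by
      induction j with
      | zero => exact M.one_mem
      | succ i ih =>
        refine M.mul_mem ih ?_
        clear ih
        induction i with
        | zero => simpa using hm
        | succ i ih =>
          have := hMs _ ih
          have e : s ^ (i + 1) * m * (s ^ (i + 1))⁻¹ = s * (s ^ i * m * (s ^ i)⁻¹) * s⁻¹ := by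
            rw [pow_succ']; group
          rwa [e]
    -- the displacement of `v` under `f j`
    have hsv : ∀ (i : ℕ), ∀ v ∈ V, (s ^ i)⁻¹ * v * s ^ i ∈ V := fun i v hv =>
      (mem_normalizer_iff''.1 (pow_mem hs i) v).1 hv
    have hsuI : ∀ (i : ℕ), ∀ u ∈ U, s ^ i * u * (s ^ i)⁻¹ = u := by
      intro i
      induction i with
      | zero => intro u _; simp
      | succ i ih =>
        intro u hu
        calc s ^ (i + 1) * u * (s ^ (i + 1))⁻¹ = s * (s ^ i * u * (s ^ i)⁻¹) * s⁻¹ := by
              rw [pow_succ']; group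
          _ = u := by rw [ih u hu, hsU u hu]
    let D : G → G → G := fun g v => g * v * g⁻¹ * v⁻¹
    have hD : ∀ i : ℕ, ∀ v ∈ V, D (s ^ i * m * (s ^ i)⁻¹) v = D m ((s ^ i)⁻¹ * v * s ^ i) := by
      intro i v hv
      calc D (s ^ i * m * (s ^ i)⁻¹) v
          = s ^ i * D m ((s ^ i)⁻¹ * v * s ^ i) * (s ^ i)⁻¹ := by simp only [D]; group
        _ = _ := hsuI i _ (hMV m hm _ (hsv i v hv))
    have hDmul : ∀ g ∈ M, ∀ h ∈ M, ∀ v ∈ V, D (g * h) v = D g v * D h v := by
      intro g hg h hh v hv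
      have hu := hMV h hh v hv
      calc D (g * h) v = g * (h * v * h⁻¹ * v⁻¹) * g⁻¹ * D g v := by simp only [D]; group
        _ = D h v * D g v := by rw [hMU g hg _ hu]
        _ = D g v * D h v := setLike_mul_comm (hU hu) (hU (hMV g hg v hv))
    set m0 := f q
    -- on fixed points it is `m`
    have hfix0 : ∀ j, ∀ v ∈ V0, D (f j) v = (D m v) ^ j := by
      intro j v hv
      induction j with
      | zero => simp [f, D]
      | succ i ih =>
        show D (f i * (s ^ i * m * (s ^ i)⁻¹)) v = _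
        rw [hDmul _ (hfM i) _ ?_ v hv.1, ih, hD i v hv.1]
        · have e : (s ^ i)⁻¹ * v * s ^ i = v := by
            have h1 : s ^ i ∈ centralizer ({v} : Set G) := pow_mem
              (mem_centralizer_singleton_iff.2 (mem_centralizer_singleton_iff.1 hv.2).symm) i
            rw [mul_assoc, ← mem_centralizer_singleton_iff.1 h1, inv_mul_cancel_left]
          rw [e, pow_succ]
        · have h1 := hfM (i + 1)
          have h2 := M.mul_mem (M.inv_mem (hfM i)) h1
          simpa [f] using h2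
    -- on the image of `[s, -]` it is trivial
    have hfix1 : ∀ x ∈ V1, D m0 x = 1 := by
      intro x hx
      obtain ⟨v, hv, rfl⟩ := hdesc x hx
      have hshift : ∀ j, D (f j) (s * v * s⁻¹) * D (s ^ j * m * (s ^ j)⁻¹) (s * v * s⁻¹)
          = D m (s * v * s⁻¹) * D (f j) v := by
        intro j
        induction j with
        | zero => simp [f, D]
        | succ i ih =>
          have hi : s ^ i * m * (s ^ i)⁻¹ ∈ M := by
            have h2 := M.mul_mem (M.inv_mem (hfM i)) (hfM (i + 1))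
            simpa [f] using h2
          have hv' := conj_mem hs hv
          show D (f i * (s ^ i * m * (s ^ i)⁻¹)) (s * v * s⁻¹) * _
            = _ * D (f i * (s ^ i * m * (s ^ i)⁻¹)) v
          rw [hDmul _ (hfM i) _ hi _ hv', hDmul _ (hfM i) _ hi _ hv, ih, hD (i + 1) _ hv', hD i _ hv]
          have earg : (s ^ (i + 1))⁻¹ * (s * v * s⁻¹) * s ^ (i + 1) = (s ^ i)⁻¹ * v * s ^ i := by
            rw [pow_succ']; group
          rw [earg, mul_assoc]
      have h1 := hshift q
      rw [hD q _ (conj_mem hs hv)] at h1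
      have e : (s ^ q)⁻¹ * (s * v * s⁻¹) * s ^ q = s * v * s⁻¹ := by
        have h2 := fix_of_mem_centralizer ((centralizer (V : Set G)).inv_mem hsq) (conj_mem hs hv)
        rwa [inv_inv] at h2
      rw [e] at h1
      have hm0 := hfM q
      have h3 : D m0 (s * v * s⁻¹) = D m0 v := by
        refine mul_right_cancel (b := D m (s * v * s⁻¹)) ?_
        rw [h1]
        exact setLike_mul_comm (hU (hMV m hm _ (conj_mem hs hv))) (hU (hMV m0 hm0 v hv))
      have h4 : ∀ g ∈ M, ∀ x ∈ V, ∀ y ∈ V, D g (x * y) = D g x * D g y := by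
        intro g hg x hx y hy
        calc D g (x * y) = g * x * g⁻¹ * (D g y * x⁻¹) := by simp only [D]; group
          _ = g * x * g⁻¹ * (x⁻¹ * D g y) := by
            rw [setLike_mul_comm (hU (hMV g hg y hy)) (V.inv_mem hx)]
          _ = _ := by simp only [D]; group
      rw [h4 m0 hm0 _ (conj_mem hs hv) _ (V.inv_mem hv), h3, ← h4 m0 hm0 _ hv _ (V.inv_mem hv),
        mul_inv_cancel]
      simp [D]
    have h0 : m0 ∈ M0 := ⟨hfM q, mem_centralizer_of_fix fun x hx => mul_inv_eq_one.1 (hfix1 x hx)⟩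
    have h1 : m * m0⁻¹ ∈ M1 := by
      refine ⟨M.mul_mem hm (M.inv_mem (hfM q)), mem_centralizer_of_fix fun v hv => ?_⟩
      have e : D m0 v = D m v := by
        rw [hfix0 q v hv]
        obtain ⟨k, hk⟩ := hq.odd_of_ne_two hq2
        rw [hk, pow_add, pow_mul, hV.2 _ (hU (hMV m hm v hv.1)), one_pow, one_mul, pow_one]
      have e' : m0 * v * m0⁻¹ = m * v * m⁻¹ := mul_right_cancel e
      have h2 : m0⁻¹ * v * m0 = m * v * m⁻¹ := by
        rw [hact.inv_conj (hfM q) hv.1, e']
      calc m * m0⁻¹ * v * (m * m0⁻¹)⁻¹ = m * (m0⁻¹ * v * m0) * m⁻¹ := by group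
        _ = v := by rw [h2]; exact hact.sq_fix hm hv.1
    have := Subgroup.mul_mem_sup h1 h0
    rwa [inv_mul_cancel_right] at this
  -- indices
  have hμ : mv V M ≤ mv V M0 * mv V M1 := by
    have e : mv V M = mv V1 (M ⊓ centralizer (V0 : Set G)) * mv V0 M := by
      rw [← mv_sup, hsup]
    have e1 : mv V M0 = mv V0 M0 := by
      have := mv_sup (A := M0) (W := V1) (W' := V0)
      rw [sup_comm, hsup, mv_eq_one_iff.2 (PLocal.le_centralizer_comm (inf_le_right : M0 ≤ _)),
        mul_one, inf_eq_left.2 (inf_le_right : M0 ≤ _)] at this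
      exact this
    have e2 : mv V M1 = mv V1 M1 := by
      have := mv_sup (A := M1) (W := V0) (W' := V1)
      rw [hsup, mv_eq_one_iff.2 (PLocal.le_centralizer_comm (inf_le_right : M1 ≤ _)),
        mul_one, inf_eq_left.2 (inf_le_right : M1 ≤ _)] at this
      exact this
    rw [e, e1, e2, mul_comm]
    refine Nat.mul_le_mul_right _ ?_
    -- `M = M1 M0`
    have hnorm : M0 ≤ normalizer (M1 : Set G) := fun g hg => Coprime.mem_normalizer_of_forall
      fun x hx => ⟨M.mul_mem (M.mul_mem hg.1 hx.1) (M.inv_mem hg.1), mem_centralizer_of_fix fun v hv => by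
        have hvV : v ∈ V := hv.1
        calc g * x * g⁻¹ * v * (g * x * g⁻¹)⁻¹ = g * (x * (g⁻¹ * v * g) * x⁻¹) * g⁻¹ := by group
          _ = g * (x * (g * v * g⁻¹) * x⁻¹) * g⁻¹ := by rw [hact.inv_conj hg.1 hvV]
          _ = g * (g * (x * v * x⁻¹) * g⁻¹) * g⁻¹ := by rw [hact.comm hx.1 hg.1 hvV]
          _ = x * v * x⁻¹ := hact.sq_fix hg.1 (hact.conj_mem hx.1 hvV)
          _ = v := fix_of_mem_centralizer hx.2 hv⟩
    have h3 := PLocal.card_sup_mul_card_inf (H := M1) (K := M0) hnorm
    rw [le_antisymm (sup_le inf_le_left inf_le_left) hsplit] at h3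
    have h4 : Nat.card (centralizer (V0 : Set G) ⊓ M : Subgroup G) * mv V0 M = Nat.card M := by
      rw [mv, relIndex, ← Nat.card_congr (subgroupOfEquivOfLe inf_le_right).toEquiv,
        inf_subgroupOf_right]
      exact card_mul_index _
    have h5 : Nat.card (centralizer (V0 : Set G) ⊓ M0 : Subgroup G) * mv V0 M0 = Nat.card M0 := by
      rw [mv, relIndex, ← Nat.card_congr (subgroupOfEquivOfLe inf_le_right).toEquiv,
        inf_subgroupOf_right]
      exact card_mul_index _
    rw [inf_comm] at h4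
    have h6 : (centralizer (V0 : Set G) ⊓ M0 : Subgroup G) = M1 ⊓ M0 :=
      le_antisymm (le_inf (le_inf (inf_le_right.trans inf_le_left) inf_le_left) inf_le_right)
        (le_inf (inf_le_left.trans inf_le_right) inf_le_right)
    rw [h6] at h5
    refine le_of_eq (Nat.eq_of_mul_eq_mul_left (Nat.card_pos (α := M1)) ?_)
    refine Nat.eq_of_mul_eq_mul_right (Nat.card_pos (α := (M1 ⊓ M0 : Subgroup G))) ?_
    rw [h4, h3, ← h5]
    ring
  -- the module side
  set T := U.relIndex V0
  have hT1 : Nat.card V1 = V0.relIndex V := by rw [hcard1, inf_relIndex_left]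
  have hτ : U.relIndex V = T * Nat.card V1 := by
    rw [hT1, relIndex_mul_relIndex _ _ _ hUV0 inf_le_left]
  have hTpow : ∃ n, T = 2 ^ n := relIndex_pow_two ((isPGroup_elemAb hV).to_le inf_le_left)
  have hact0 : ElemAct V M0 := hact.mono inf_le_left
  have hact1 : ElemAct V M1 := hact.mono inf_le_left
  have hb1 : ¬ M1 ≤ centralizer (V : Set G) → 2 * mv V M1 ≤ Nat.card V1 := by
    intro hne
    obtain ⟨hlt, -⟩ := hnoff M1 (inf_le_left.trans hMR) hact1 hne
    refine (two_mul_le_of_lt (mv_pow' hact1) (mv_pow _ (isPGroup_elemAb hV)) hlt).trans ?_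
    rw [hT1]
    exact relIndex_le_of_le_left (PLocal.le_centralizer_comm inf_le_right)
      Subgroup.index_ne_zero_of_finite
  have hb0 : ¬ M0 ≤ centralizer (V : Set G) → 2 * mv V M0 ≤ T := by
    intro hne
    obtain ⟨hlt, -⟩ := hnoff M0 (inf_le_left.trans hMR) hact0 hne
    refine (two_mul_le_of_lt (mv_pow' hact0) (mv_pow _ (isPGroup_elemAb hV)) hlt).trans ?_
    have hle' : U ⊔ V1 ≤ centralizer (M0 : Set G) :=
      sup_le (fun u hu => mem_centralizer_iff.2 fun m hm =>
        mul_inv_eq_iff_eq_mul.1 (hMU m hm.1 u hu)) (PLocal.le_centralizer_comm inf_le_right)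
    refine (relIndex_le_of_le_left hle' Subgroup.index_ne_zero_of_finite).trans ?_
    -- `|V : U V1| = |V0 : U|`
    have h7 := PLocal.card_sup_mul_card_inf (H := U) (K := V1) (fun x hx => centralizer_le_normalizer _
      (mem_centralizer_iff.2 fun y hy => setLike_mul_comm (hU hy) (hV1 hx)))
    rw [show U ⊓ V1 = ⊥ from eq_bot_iff.2 ((le_inf inf_le_right
      (inf_le_left.trans (hUV0.trans inf_le_right))).trans hinf.le), card_bot, mul_one] at h7
    have h8 : Nat.card (U ⊔ V1 : Subgroup G) * (U ⊔ V1).relIndex V = Nat.card U * U.relIndex V := by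
      rw [relIndex, relIndex, ← Nat.card_congr (subgroupOfEquivOfLe (sup_le hU hV1)).toEquiv,
        ← Nat.card_congr (subgroupOfEquivOfLe hU).toEquiv, card_mul_index, card_mul_index]
    rw [h7, hτ, mul_assoc, mul_comm T] at h8
    have h9 := Nat.eq_of_mul_eq_mul_left Nat.card_pos h8
    exact (Nat.eq_of_mul_eq_mul_left Nat.card_pos h9).le
  have hV1gt : 1 < Nat.card V1 := by
    rw [hcard1]
    refine lt_of_le_of_ne (Nat.pos_of_ne_zero Subgroup.index_ne_zero_of_finite) fun e => hs1 ?_
    refine mem_centralizer_iff.2 fun v hv => ?_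
    exact mem_centralizer_singleton_iff.1 (relIndex_eq_one.1 e.symm hv)
  have hmod : q ∣ Nat.card V1 - 1 := (Nat.modEq_iff_dvd' hV1gt.le).1 hmod1.symm
  obtain ⟨i, hi⟩ : ∃ j, Nat.card V1 = 2 ^ j := IsPGroup.iff_card.1 ((isPGroup_elemAb hV).to_le hV1)
  have hB : T * Nat.card V1 ≤ 4 * (mv V M0 * mv V M1) := by
    rw [← hτ]; exact hbound.trans (Nat.mul_le_mul_left 4 hμ)
  have hTpos : 0 < T := Nat.pos_of_ne_zero Subgroup.index_ne_zero_of_finite
  by_cases h1 : M1 ≤ centralizer (V : Set G)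
  · -- then `|V1| ≤ 2`, impossible
    rw [mv_eq_one_iff.2 (PLocal.le_centralizer_comm h1), mul_one] at hB
    by_cases h0 : M0 ≤ centralizer (V : Set G)
    · exact absurd (hsplit.trans (sup_le h1 h0)) hMC
    have := hb0 h0
    have h2 : Nat.card V1 ≤ 2 := by nlinarith
    have h3 : Nat.card V1 - 1 = 1 := by omega
    rw [h3] at hmod
    exact absurd (Nat.dvd_one.1 hmod) hq.one_lt.ne'
  -- the congruence on `M1`
  have hμ1 : mv V M1 ≡ 1 [MOD q] := by
    have hN1 : ∀ m ∈ M1, s * m * s⁻¹ ∈ M1 := fun m hm => ⟨hMs m hm.1, mem_centralizer_of_fix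
      fun v hv => by
        calc s * m * s⁻¹ * v * (s * m * s⁻¹)⁻¹
            = s * (m * (s⁻¹ * v * s) * m⁻¹) * s⁻¹ := by group
          _ = v := by
            rw [show s⁻¹ * v * s = v by rw [mul_assoc, mem_centralizer_singleton_iff.1 hv.2,
              inv_mul_cancel_left], fix_of_mem_centralizer hm.2 hv, hV0fix v hv]⟩
    haveI hn : ((centralizer (V : Set G)).subgroupOf M1).Normal :=
      ⟨fun c hc g => mem_subgroupOf.2 (centralizer_normalizer (hact1.1 g.2) hc)⟩
    let cj : M1 →* M1 := MonoidHom.mk' (fun m => ⟨s * m * s⁻¹, hN1 m m.2⟩)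
      fun x y => Subtype.ext (by push_cast; group)
    let π : (M1 ⧸ (centralizer (V : Set G)).subgroupOf M1) →* (M1 ⧸ (centralizer (V : Set G)).subgroupOf M1) :=
      QuotientGroup.map _ _ cj fun c hc => mem_comap.2 (mem_subgroupOf.2 (centralizer_normalizer hs hc))
    have hπ : Function.Bijective π := by
      refine (Finite.injective_iff_bijective).1 ((injective_iff_map_eq_one π).2 fun x => ?_)
      induction x using QuotientGroup.induction_on with
      | H m =>
        intro h
        rw [QuotientGroup.map_mk, QuotientGroup.eq_one_iff] at h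
        rw [QuotientGroup.eq_one_iff]
        have h' := centralizer_normalizer ((normalizer (V : Set G)).inv_mem hs) (mem_subgroupOf.1 h)
        refine mem_subgroupOf.2 ?_
        simpa [cj, mul_assoc] using h'
    have hcardq : mv V M1 = Nat.card (M1 ⧸ (centralizer (V : Set G)).subgroupOf M1) := by
      rw [mv, relIndex, index_eq_card]
    rw [hcardq]
    refine modEq_one_of_unique_fixed (Equiv.ofBijective π hπ) (Equiv.ext fun x => ?_) 1
      fun x => ⟨?_, fun h => h ▸ map_one π⟩
    · induction x using QuotientGroup.induction_on with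
      | H m =>
        have hpow : ∀ i : ℕ, ∀ m : M1, ∃ m' : M1, (m' : G) = s ^ i * m * (s ^ i)⁻¹ ∧
            ((Equiv.ofBijective π hπ) ^ i) (QuotientGroup.mk m) = QuotientGroup.mk m' := by
          intro i
          induction i with
          | zero => exact fun m => ⟨m, by simp, rfl⟩
          | succ i ih =>
            intro m
            obtain ⟨m', e1, e2⟩ := ih m
            refine ⟨cj m', ?_, ?_⟩
            · show s * (m' : G) * s⁻¹ = _
              rw [e1, pow_succ']; group
            · rw [pow_succ', Equiv.Perm.mul_apply, e2]; rfl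
        obtain ⟨m', e1, e2⟩ := hpow q m
        rw [e2, Equiv.Perm.one_apply, QuotientGroup.eq]
        refine mem_subgroupOf.2 (mem_centralizer_of_fix fun v hv => ?_)
        have hmv := hact1.conj_mem m.2 hv
        push_cast
        rw [e1]
        calc (s ^ q * m * (s ^ q)⁻¹)⁻¹ * m * v * ((s ^ q * m * (s ^ q)⁻¹)⁻¹ * m)⁻¹
            = s ^ q * ((m : G)⁻¹ * ((s ^ q)⁻¹ * (m * v * (m : G)⁻¹) * (s ^ q)⁻¹⁻¹) * m) * (s ^ q)⁻¹ := by
              group
          _ = s ^ q * v * (s ^ q)⁻¹ := by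
              rw [fix_of_mem_centralizer ((centralizer (V : Set G)).inv_mem hsq) hmv]; group
          _ = v := fix_of_mem_centralizer hsq hv
    · intro h
      induction x using QuotientGroup.induction_on with
      | H m =>
        rw [Equiv.ofBijective_apply, QuotientGroup.map_mk, QuotientGroup.eq] at h
        rw [QuotientGroup.eq_one_iff]
        refine mem_subgroupOf.2 ?_
        have hmc : ∀ v ∈ V, (m : G) * v * (m : G)⁻¹ = s * m * s⁻¹ * v * (s * m * s⁻¹)⁻¹ := by
          intro v hv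
          refine (conj_congr ?_ hv).symm
          have := mem_subgroupOf.1 h
          simpa [cj] using this
        have hker1 : (m : G) ∈ centralizer (V1 : Set G) := by
          refine mem_centralizer_of_fix fun x hx => ?_
          obtain ⟨v, hv, rfl⟩ := hdesc x hx
          have h5 : (m : G) * (s * v * s⁻¹) * (m : G)⁻¹ = (m * v * (m : G)⁻¹ * v⁻¹) * (s * v * s⁻¹) := by
            rw [hmc _ (conj_mem hs hv)]
            exact hpres m m.2.1 v hv
          calc (m : G) * (s * v * s⁻¹ * v⁻¹) * (m : G)⁻¹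
              = ((m : G) * (s * v * s⁻¹) * (m : G)⁻¹) * ((m : G) * v * (m : G)⁻¹)⁻¹ := by group
            _ = (m * v * (m : G)⁻¹ * v⁻¹) * ((s * v * s⁻¹ * v⁻¹) * (m * v * (m : G)⁻¹ * v⁻¹)⁻¹) := by
              rw [h5]; group
            _ = (m * v * (m : G)⁻¹ * v⁻¹) * ((m * v * (m : G)⁻¹ * v⁻¹)⁻¹ * (s * v * s⁻¹ * v⁻¹)) := by
              rw [setLike_mul_comm (V.mul_mem (conj_mem hs hv) (V.inv_mem hv))
                (V.inv_mem (hU (hMV _ m.2.1 v hv)))]
            _ = _ := by group
        have h6 : (m : G) ∈ centralizer ((V0 ⊔ V1 : Subgroup G) : Set G) := by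
          rw [PLocal.centralizer_sup]; exact ⟨m.2.2, hker1⟩
        rwa [hsup] at h6
  have hb := hb1 h1
  have hμ1gt : 1 < mv V M1 := one_lt_mv' h1
  obtain ⟨j, hj⟩ := mv_pow' hact1
  obtain ⟨l, hl⟩ := hTpow
  have hm1 : q ∣ mv V M1 - 1 := (Nat.modEq_iff_dvd' hμ1gt.le).1 hμ1.symm
  have hr : Nat.card V1 = 2 * mv V M1 ∨ Nat.card V1 = 4 * mv V M1 := by
    by_cases h0 : M0 ≤ centralizer (V : Set G)
    · rw [mv_eq_one_iff.2 (PLocal.le_centralizer_comm h0), one_mul] at hB
      have h2 : Nat.card V1 ≤ 4 * mv V M1 := le_trans (Nat.le_mul_of_pos_left _ hTpos) hB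
      rw [hi, hj] at h2 hb ⊢
      rw [← pow_succ'] at hb ⊢
      rw [show 4 * 2 ^ j = 2 ^ (j + 2) by ring] at h2 ⊢
      have := (Nat.pow_le_pow_iff_right one_lt_two).1 h2
      have := (Nat.pow_le_pow_iff_right one_lt_two).1 hb
      rcases (show i = j + 1 ∨ i = j + 2 by omega) with e | e
      · exact Or.inl (by rw [e])
      · exact Or.inr (by rw [e])
    · have h0' := hb0 h0
      exact Or.inl (le_antisymm (by nlinarith) hb)
  rcases hr with e | e
  · exfalso
    have h3 : q ∣ 2 * mv V M1 - 1 - 2 * (mv V M1 - 1) := Nat.dvd_sub (e ▸ hmod) (hm1.mul_left 2)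
    rw [show 2 * mv V M1 - 1 - 2 * (mv V M1 - 1) = 1 by omega] at h3
    exact hq.one_lt.ne' (Nat.dvd_one.1 h3)
  · have h3 : q ∣ 4 * mv V M1 - 1 - 4 * (mv V M1 - 1) := Nat.dvd_sub (e ▸ hmod) (hm1.mul_left 4)
    rw [show 4 * mv V M1 - 1 - 4 * (mv V M1 - 1) = 3 by omega] at h3
    exact (Nat.prime_dvd_prime_iff_eq hq Nat.prime_three).1 h3

end Cfsg.Agent.StellmacherW
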