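/-
An elementary subgroup `W(S)` for solvable `S₄`-free groups (helper70): the pair `W`, `W^y`.

A subgroup `A` of `S` with a hyperplane `A1`, and `y` inverted modulo `O₂(G)` outside `N(W)`;
`V` is a join of conjugates of `W` under powers of `y`.
* `Pair.comm_mem`: commutators lie in `W` if a single conjugate of `W` carries the action
* `Pair.not_offender`: `A` is no offender on `V` if it centralises `W`
-/
import Cfsg.Agent.Lib.StellmacherW.Count
import Cfsg.Agent.Lib.StellmacherW.InCore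

set_option autoImplicit false
set_option linter.style.haveILetI false

namespace Cfsg.Agent.StellmacherW

open Subgroup

variable {G : Type*} [Group G] [Finite G]

/-- The data for the local argument. -/
structure Pair (W A A1 : Subgroup G) (Q : Subgroup G) (a y : G) : Prop where
  normal : Q.Normal
  a_mem : a ∈ A
  le : A1 ≤ A
  cover : ∀ x ∈ A, x ∈ A1 ∨ a⁻¹ * x ∈ A1
  A_norm : A ≤ normalizer (W : Set G)
  Q_norm : Q ≤ normalizer (W : Set G)
  sq_mem : ∀ x ∈ A, x * x ∈ Q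
  odd : Odd (orderOf y)
  y_out : y ∉ normalizer (W : Set G)
  inv : a * y * a⁻¹ * y ∈ Q
  comm : ∀ b ∈ A1, b * y * b⁻¹ * y⁻¹ ∈ Q

/-- The join of the conjugates of `W` under the powers of `y`. -/
def orbitJoin (W : Subgroup G) (y : G) : Subgroup G := ⨆ n : ℕ, cj (y ^ n) W

omit [Finite G] in
theorem cj_iSup {ι : Sort*} (z : G) (H : ι → Subgroup G) : cj z (⨆ i, H i) = ⨆ i, cj z (H i) :=
  Subgroup.map_iSup _ _

theorem exists_nat_pow_zpow (y : G) (n : ℤ) : ∃ m : ℕ, y ^ n = y ^ m := by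
  obtain ⟨m, hm⟩ := (isOfFinOrder_of_finite y).mem_powers_iff_mem_zpowers.2 (zpow_mem (mem_zpowers y) n)
  exact ⟨m, hm.symm⟩

theorem exists_odd_two_pow (g : G) : ∃ e, Odd (orderOf (g ^ (2 ^ e))) := by
  obtain ⟨e, o, ho, hord⟩ := Nat.exists_eq_pow_mul_and_not_dvd (orderOf_pos g).ne' 2 (by norm_num)
  refine ⟨e, Odd.of_dvd_nat (Nat.not_even_iff_odd.1 fun h => ho (even_iff_two_dvd.1 h))
    (orderOf_dvd_of_pow_eq_one ?_)⟩
  rw [← pow_mul, ← hord, pow_orderOf_eq_one]

namespace Pair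

variable {W A A1 Q : Subgroup G} {a y : G}

theorem a_norm (h : Pair W A A1 Q a y) : cj a W = W := cj_eq_self_iff.2 (h.A_norm h.a_mem)

theorem cj_eq_of_mem (h : Pair W A A1 Q a y) {g z : G} (hg : g⁻¹ * z ∈ Q) : cj z W = cj g W := by
  rw [show z = g * (g⁻¹ * z) by group, ← cj_cj, cj_eq_self_iff.2 (h.Q_norm hg)]

omit [Finite G] in
theorem inv_pow (h : Pair W A A1 Q a y) (n : ℕ) : a * y ^ n * a⁻¹ * y ^ n ∈ Q := by
  haveI := h.normal
  induction n with
  | zero => simp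
  | succ n ih =>
    have h1 := Q.mul_mem h.inv (Normal.conj_mem inferInstance _ ih y⁻¹)
    have e : a * y ^ (n + 1) * a⁻¹ * y ^ (n + 1)
        = (a * y * a⁻¹ * y) * (y⁻¹ * (a * y ^ n * a⁻¹ * y ^ n) * y⁻¹⁻¹) := by
      conv_lhs => arg 1; arg 1; arg 2; rw [pow_succ']
      rw [pow_succ]
      group
    rw [e]
    exact h1

omit [Finite G] in
theorem comm_pow (h : Pair W A A1 Q a y) {b : G} (hb : b ∈ A1) (n : ℕ) :
    b * y ^ n * b⁻¹ * (y ^ n)⁻¹ ∈ Q := by
  haveI := h.normal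
  induction n with
  | zero => simp
  | succ n ih =>
    have h1 := Q.mul_mem (h.comm b hb) (Normal.conj_mem inferInstance _ ih y)
    have e : b * y ^ (n + 1) * b⁻¹ * (y ^ (n + 1))⁻¹
        = (b * y * b⁻¹ * y⁻¹) * (y * (b * y ^ n * b⁻¹ * (y ^ n)⁻¹) * y⁻¹) := by
      rw [pow_succ' y n]; group
    rw [e]
    exact h1

/-- `a` exchanges the conjugates under `y ^ n` and `y ^ (-n)`. -/
theorem cj_a (h : Pair W A A1 Q a y) (n : ℕ) : cj a (cj (y ^ n) W) = cj (y ^ n)⁻¹ W := by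
  haveI := h.normal
  have h1 : cj (a * y ^ n * a⁻¹) W = cj (y ^ n)⁻¹ W := by
    refine h.cj_eq_of_mem ?_
    have := Normal.conj_mem inferInstance _ (h.inv_pow n) (y ^ n)
    rw [inv_inv]
    convert this using 1
    group
  have h2 : cj a⁻¹ W = W := cj_eq_self_iff.2 (h.A_norm (A.inv_mem h.a_mem))
  rw [cj_cj, ← h1]
  conv_rhs => rw [← cj_cj, h2]

/-- `A1` normalises every conjugate. -/
theorem cj_b (h : Pair W A A1 Q a y) {b : G} (hb : b ∈ A1) (n : ℕ) :
    cj b (cj (y ^ n) W) = cj (y ^ n) W := by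
  haveI := h.normal
  have h1 : cj (b * y ^ n * b⁻¹) W = cj (y ^ n) W := by
    refine h.cj_eq_of_mem ?_
    have := Normal.conj_mem' inferInstance _ (h.comm_pow hb n) (y ^ n)
    convert this using 1
    group
  have h2 : cj b⁻¹ W = W := cj_eq_self_iff.2 (h.A_norm (A.inv_mem (h.le hb)))
  rw [cj_cj, ← h1]
  conv_rhs => rw [← cj_cj, h2]

theorem y_norm (h : Pair W A A1 Q a y) : y ∈ normalizer ((orbitJoin W y : Subgroup G) : Set G) := by
  refine cj_eq_self_iff.1 (le_antisymm ?_ ?_)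
  · rw [orbitJoin, cj_iSup]
    refine iSup_le fun n => ?_
    rw [cj_cj, ← pow_succ']
    exact le_iSup (fun n => cj (y ^ n) W) (n + 1)
  · rw [orbitJoin, cj_iSup]
    refine iSup_le fun n => ?_
    obtain ⟨m, hm⟩ := exists_nat_pow_zpow y (n - 1)
    refine le_trans (le_of_eq ?_) (le_iSup (fun n => cj y (cj (y ^ n) W)) m)
    show _ = cj y (cj (y ^ m) W)
    rw [cj_cj, ← hm, ← zpow_one_add, add_sub_cancel, zpow_natCast]

theorem A_normV (h : Pair W A A1 Q a y) : A ≤ normalizer ((orbitJoin W y : Subgroup G) : Set G) := by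
  have hgen : ∀ g : G, (∀ n, cj g (cj (y ^ n) W) ≤ orbitJoin W y) →
      g ∈ normalizer ((orbitJoin W y : Subgroup G) : Set G) := by
    intro g hg
    refine cj_eq_self_iff.1 (eq_of_le_of_card_ge ?_ (card_map_of_injective (MulAut.conj g).injective).ge)
    rw [orbitJoin, cj_iSup]
    exact iSup_le hg
  intro x hx
  have ha : a ∈ normalizer ((orbitJoin W y : Subgroup G) : Set G) := hgen a fun n => by
    rw [h.cj_a n]
    obtain ⟨m, hm⟩ := exists_nat_pow_zpow y (-n : ℤ)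
    rw [zpow_neg, zpow_natCast] at hm
    rw [hm]
    exact le_iSup (fun n => cj (y ^ n) W) m
  have hb : ∀ b ∈ A1, b ∈ normalizer ((orbitJoin W y : Subgroup G) : Set G) := fun b hb =>
    hgen b fun n => by rw [h.cj_b hb n]; exact le_iSup (fun n => cj (y ^ n) W) n
  rcases h.cover x hx with h1 | h1
  · exact hb x h1
  · simpa using mul_mem ha (hb _ h1)

theorem A1_norm_cj (h : Pair W A A1 Q a y) (n : ℕ) : A1 ≤ normalizer ((cj (y ^ n) W : Subgroup G) : Set G) :=
  fun _ hb => cj_eq_self_iff.1 (h.cj_b hb n)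

/-- `A1 Q` is normalised by `a` and `y`. -/
theorem sup_norm (h : Pair W A A1 Q a y) {g : G} (hg : g = a ∨ g = y) :
    g ∈ normalizer ((A1 ⊔ Q : Subgroup G) : Set G) := by
  haveI := h.normal
  refine Coprime.mem_normalizer_of_forall fun x hx => ?_
  obtain ⟨b, hb, q, hq, rfl⟩ := mem_sup_of_normal_right.1 hx
  have key : g * b * g⁻¹ * b⁻¹ ∈ Q := by
    rcases hg with rfl | rfl
    · have hA : ∀ x ∈ A, QuotientGroup.mk' Q x * QuotientGroup.mk' Q x = 1 := fun x hx => by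
        rw [← map_mul]; exact (QuotientGroup.eq_one_iff _).2 (h.sq_mem x hx)
      refine (QuotientGroup.eq_one_iff _).1 ?_
      show QuotientGroup.mk' Q (g * b * g⁻¹ * b⁻¹) = 1
      have h1 := hA g h.a_mem
      have h2 := hA b (h.le hb)
      have h3 := hA _ (A.mul_mem h.a_mem (h.le hb))
      rw [map_mul] at h3
      rw [map_mul, map_mul, map_mul, map_inv, map_inv, inv_eq_of_mul_eq_one_left h1,
        inv_eq_of_mul_eq_one_left h2]
      calc _ = (QuotientGroup.mk' Q g * QuotientGroup.mk' Q b) *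
            (QuotientGroup.mk' Q g * QuotientGroup.mk' Q b) := by group
        _ = 1 := h3
    · have := Q.inv_mem (h.comm b hb)
      convert this using 1
      group
  have e : g * (b * q) * g⁻¹ = b * ((b⁻¹ * (g * b * g⁻¹ * b⁻¹) * b) * (g * q * g⁻¹)) := by group
  rw [e]
  exact mul_mem_sup hb (Q.mul_mem (Normal.conj_mem' inferInstance _ key b)
    (Normal.conj_mem inferInstance q hq g))

theorem le_orbitJoin (W : Subgroup G) (y : G) : W ≤ orbitJoin W y := by
  have := le_iSup (fun n => cj (y ^ n) W) 0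
  simp only [pow_zero, cj_one] at this
  exact this

/-- An element congruent to a generator of `⟨y⟩` moves `W`. -/
theorem not_norm_of_congr (h : Pair W A A1 Q a y) {z : G} {j m : ℕ} (hj : (z ^ j) * y ^ m ∈ Q)
    (hm : m.Coprime (orderOf y)) : z ∉ normalizer (W : Set G) := by
  intro hz
  refine h.y_out ?_
  have h1 : y ^ m ∈ normalizer (W : Set G) := by
    have := mul_mem (inv_mem (pow_mem hz j)) (h.Q_norm hj)
    rwa [inv_mul_cancel_left] at this
  obtain ⟨k, hk⟩ := exists_pow_eq_self_of_coprime hm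
  rw [← hk]
  exact pow_mem h1 k

/-- The element built from `a` and its conjugate by `y ^ n`. -/
theorem exists_rot (h : Pair W A A1 Q a y) (hact : ElemAct (orbitJoin W y) A) (n : ℕ) :
    ∃ (t : G) (j : ℕ), Odd (orderOf t) ∧ t ∈ normalizer ((orbitJoin W y : Subgroup G) : Set G) ∧
      t ∈ normalizer ((A1 ⊔ Q : Subgroup G) : Set G) ∧
      a * t * a⁻¹ * t ∈ centralizer ((orbitJoin W y : Subgroup G) : Set G) ∧
      t ^ j * y ^ n ∈ Q ∧
      ∀ x : G, (a * (y ^ n * a * (y ^ n)⁻¹)) * (a * (y ^ n * a * (y ^ n)⁻¹)) * x *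
        ((a * (y ^ n * a * (y ^ n)⁻¹)) * (a * (y ^ n * a * (y ^ n)⁻¹)))⁻¹ = x → t * x * t⁻¹ = x := by
  haveI := h.normal
  set V := orbitJoin W y
  set C := centralizer (V : Set G)
  set c := y ^ n * a * (y ^ n)⁻¹
  set t1 := a * c
  obtain ⟨e, he⟩ := exists_odd_two_pow (t1 * t1)
  have hyn : y ^ n ∈ normalizer (V : Set G) := pow_mem h.y_norm n
  have hyQ : y ^ n ∈ normalizer ((A1 ⊔ Q : Subgroup G) : Set G) := pow_mem (h.sup_norm (Or.inr rfl)) n
  have haV : a ∈ normalizer (V : Set G) := h.A_normV h.a_mem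
  have haQ : a ∈ normalizer ((A1 ⊔ Q : Subgroup G) : Set G) := h.sup_norm (Or.inl rfl)
  have hcV : c ∈ normalizer (V : Set G) := mul_mem (mul_mem hyn haV) (inv_mem hyn)
  have htV : t1 ∈ normalizer (V : Set G) := mul_mem haV hcV
  have hinv1 : a * t1 * a⁻¹ * t1 ∈ C := by
    have h1 := hact.2 a h.a_mem
    have h2 : c * c ∈ C := by
      have := centralizer_normalizer hyn h1
      convert this using 1
      simp only [c]; group
    have := C.mul_mem h1 h2
    convert this using 1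
    simp only [t1]; group
  -- modulo `Q`
  set π := QuotientGroup.mk' Q
  have hker : ∀ {g : G}, π g = 1 ↔ g ∈ Q := fun {g} => QuotientGroup.eq_one_iff g
  have hπt : π t1 = (π y ^ (2 * n))⁻¹ := by
    have h1 : π a * π a = 1 := by rw [← map_mul]; exact hker.2 (h.sq_mem a h.a_mem)
    have h2 : π a * π y ^ n * π a = (π y ^ n)⁻¹ := by
      rw [← mul_eq_one_iff_eq_inv]
      nth_rewrite 2 [← inv_eq_of_mul_eq_one_left h1]
      rw [← map_pow, ← map_inv, ← map_mul, ← map_mul, ← map_mul]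
      exact hker.2 (h.inv_pow n)
    simp only [t1, c, map_mul, map_inv, map_pow]
    calc π a * (π y ^ n * π a * (π y ^ n)⁻¹) = (π a * π y ^ n * π a) * (π y ^ n)⁻¹ := by group
      _ = _ := by rw [h2, two_mul, pow_add, mul_inv_rev]
  obtain ⟨j, hj⟩ := exists_pow_eq_self_of_coprime (x := y ^ n) (n := 2 ^ (e + 2))
    (Nat.Coprime.pow_left _ (Nat.coprime_two_left.2 (h.odd.of_dvd_nat (orderOf_pow_dvd n))))
  refine ⟨(t1 * t1) ^ 2 ^ e, j, he, pow_mem (mul_mem htV htV) _,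
    pow_mem (mul_mem (mul_mem haQ (mul_mem (mul_mem hyQ haQ) (inv_mem hyQ)))
      (mul_mem haQ (mul_mem (mul_mem hyQ haQ) (inv_mem hyQ)))) _, ?_, ?_, fun x hx => ?_⟩
  · have h1 := inv_pow_act htV hinv1 (2 ^ (e + 1))
    rwa [pow_succ', pow_mul, sq] at h1
  · refine hker.1 ?_
    rw [map_mul, map_pow, map_pow, map_mul, hπt, ← sq, ← pow_mul, ← pow_mul, ← mul_assoc,
      _root_.inv_pow, ← pow_mul, map_pow, inv_mul_eq_one]
    rw [← map_pow, ← map_pow]
    congr 1
    conv_rhs => rw [← hj]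
    rw [← pow_mul, ← pow_mul]
    congr 1
    ring
  · have h1 : t1 * t1 ∈ centralizer ({x} : Set G) :=
      mem_centralizer_singleton_iff.2 (mul_inv_eq_iff_eq_mul.1 hx)
    have h2 := pow_mem h1 (2 ^ e)
    rw [mem_centralizer_singleton_iff.1 h2, mul_inv_cancel_right]

variable {R : Subgroup G}

/-- **Commutators lie in `W`** when one conjugate carries the action of `A1`. -/
theorem comm_mem (h : Pair W A A1 Q a y) (hV : Cfsg.IsElementaryAbelian 2 (orbitJoin W y))
    (hact : ElemAct (orbitJoin W y) A) (hAW : A ≤ centralizer (W : Set G)) {n : ℕ}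
    (heq : mv A1 (orbitJoin W y) ≤ mv A1 (cj (y ^ n) W)) :
    ∀ v ∈ orbitJoin W y, ∀ b ∈ A1,
      b * v * b⁻¹ * v⁻¹ ∈ W ⊓ cj (y ^ n) W := by
  haveI := h.normal
  haveI := hV.1
  set V := orbitJoin W y
  set W' := cj (y ^ n) W
  have hW'V : W' ≤ V := le_iSup (fun n => cj (y ^ n) W) n
  -- `V = W' C_V(A1)`
  have hgen : W' ⊔ V ⊓ centralizer (A1 : Set G) = V := by
    refine eq_of_le_of_card_ge (sup_le hW'V inf_le_left) ?_
    have h3 := PLocal.card_sup_mul_card_inf (H := W') (K := V ⊓ centralizer (A1 : Set G))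
      (fun x hx => centralizer_le_normalizer _
        (mem_centralizer_iff.2 fun w hw => setLike_mul_comm (hW'V hw) hx.1))
    have e : ∀ X : Subgroup G, Nat.card (X ⊓ centralizer (A1 : Set G) : Subgroup G) * mv A1 X = Nat.card X := by
      intro X
      rw [mv, relIndex, inf_comm, ← Nat.card_congr (subgroupOfEquivOfLe inf_le_right).toEquiv,
        inf_subgroupOf_right]
      exact card_mul_index _
    rw [show W' ⊓ (V ⊓ centralizer (A1 : Set G)) = W' ⊓ centralizer (A1 : Set G) by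
      rw [← inf_assoc, inf_eq_left.2 hW'V], ← e W'] at h3
    have h4 : Nat.card (W' ⊔ V ⊓ centralizer (A1 : Set G) : Subgroup G) =
        mv A1 W' * Nat.card (V ⊓ centralizer (A1 : Set G) : Subgroup G) := by
      refine Nat.eq_of_mul_eq_mul_right (Nat.card_pos (α := (W' ⊓ centralizer (A1 : Set G) : Subgroup G))) ?_
      rw [h3]; ring
    rw [h4, ← e V, mul_comm]
    exact Nat.mul_le_mul_right _ heq
  -- commutators in `W'`
  have h1 : ∀ v ∈ V, ∀ b ∈ A1, b * v * b⁻¹ * v⁻¹ ∈ W' := by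
    intro v hv b hb
    rw [← hgen] at hv
    obtain ⟨w, hw, f, hf, rfl⟩ := (Coprime.mem_sup_iff (fun x hx => centralizer_le_normalizer _
      (mem_centralizer_iff.2 fun z hz => setLike_mul_comm (hW'V hz) (inf_le_left (a := V) hx)))).1 hv
    have hfix : b * f * b⁻¹ = f := by
      rw [mem_centralizer_iff.1 hf.2 b hb, mul_inv_cancel_right]
    have e : b * (w * f) * b⁻¹ * (w * f)⁻¹ = (b * w * b⁻¹) * ((b * f * b⁻¹) * f⁻¹) * w⁻¹ := by group
    rw [e, hfix, mul_inv_cancel, mul_one]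
    exact W'.mul_mem (conj_mem (h.A1_norm_cj n hb) hw) (W'.inv_mem hw)
  -- and in its image under `a`
  have h2 : ∀ v ∈ V, ∀ b ∈ A1, b * v * b⁻¹ * v⁻¹ ∈ cj a W' := by
    intro v hv b hb
    have hv' : a⁻¹ * v * a ∈ V := (mem_normalizer_iff''.1 (h.A_normV h.a_mem) v).1 hv
    have h3 := conj_mem_cj (z := a) (h1 _ hv' b hb)
    have e : a * (b * (a⁻¹ * v * a) * b⁻¹ * (a⁻¹ * v * a)⁻¹) * a⁻¹
        = (a * (b * (a⁻¹ * v * a) * b⁻¹) * a⁻¹) * v⁻¹ := by group
    rw [e, hact.comm h.a_mem (h.le hb) hv'] at h3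
    convert h3 using 1
    group
  intro v hv b hb
  set r := b * v * b⁻¹ * v⁻¹
  have hr1 := h1 v hv b hb
  have hr2 := h2 v hv b hb
  refine ⟨?_, hr1⟩
  obtain ⟨t, j, -, -, -, -, hj, hfix⟩ := h.exists_rot hact n
  set c := y ^ n * a * (y ^ n)⁻¹
  -- `c` fixes `W'`
  have hc : ∀ w ∈ W', c * w * c⁻¹ = w := by
    intro w hw
    have hw' := mem_cj.1 hw
    calc c * w * c⁻¹ = y ^ n * (a * ((y ^ n)⁻¹ * w * y ^ n) * a⁻¹) * (y ^ n)⁻¹ := by
          simp only [c]; group
      _ = w := by rw [fix_of_mem_centralizer (hAW h.a_mem) hw']; group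
  have hrV : r ∈ V := hW'V hr1
  have hrot : t * r * t⁻¹ = r := by
    refine hfix r ?_
    calc a * c * (a * c) * r * (a * c * (a * c))⁻¹ = a * (c * (a * (c * r * c⁻¹) * a⁻¹) * c⁻¹) * a⁻¹ := by
          group
      _ = r := by
        rw [hc r hr1]
        have h5 : a * r * a⁻¹ ∈ W' := by
          have h6 := mem_cj.1 hr2
          rwa [hact.inv_conj h.a_mem hrV] at h6
        rw [hc _ h5, hact.sq_fix h.a_mem hrV]
  have h6 : t ^ j * r * (t ^ j)⁻¹ = r := by
    have h7 : t ^ j ∈ centralizer ({r} : Set G) := pow_mem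
      (mem_centralizer_singleton_iff.2 (mul_inv_eq_iff_eq_mul.1 hrot)) j
    rw [mem_centralizer_singleton_iff.1 h7, mul_inv_cancel_right]
  rw [← h6]
  have h7 : cj (t ^ j * y ^ n) W = W := cj_eq_self_iff.2 (h.Q_norm hj)
  rw [← h7, ← cj_cj]
  exact conj_mem_cj hr1

/-- **`A` is no offender on the orbit join** when it centralises `W`. -/
theorem not_offender (h : Pair W A A1 Q a y) (hS4 : ¬ Cfsg.Involves (Equiv.Perm (Fin 4)) G)
    (hV : Cfsg.IsElementaryAbelian 2 (orbitJoin W y)) (hact : ElemAct (orbitJoin W y) A)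
    (hnoff : NoOff (A1 ⊔ Q) (orbitJoin W y)) (hQV : A1 ⊔ Q ≤ normalizer ((orbitJoin W y : Subgroup G) : Set G))
    (hno' : ∀ n, NoOff A1 (cj (y ^ n) W))
    (hAW : A ≤ centralizer (W : Set G)) :
    mv (orbitJoin W y) A < mv A (orbitJoin W y) := by
  haveI := h.normal
  haveI := hV.1
  set V := orbitJoin W y
  by_contra hle
  rw [not_lt] at hle
  have hidx := relIndex_le_two h.cover h.a_mem
  have hk2 : mv V A ≤ 2 * mv V A1 := mv_le_two_mul h.le hidx V
  have haN : a ∈ normalizer (V : Set G) := h.A_normV h.a_mem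
  have hA1x : mv A1 V ≤ mv A V :=
    relIndex_le_of_le_left (centralizer_le (SetLike.coe_subset_coe.2 h.le)) Subgroup.index_ne_zero_of_finite
  by_cases hA1 : A1 ≤ centralizer (V : Set G)
  · -- a single involution inverting an element of odd order
    rw [mv_eq_one_iff.2 (PLocal.le_centralizer_comm hA1)] at hk2
    obtain ⟨t, j, hto, htV, -, hinv, hj, -⟩ := h.exists_rot hact 1
    refine hS4 (involves_of_mv_le_two hV haN (hact.2 a h.a_mem) htV hinv hto ?_ ?_)
    · intro hc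
      exact h.not_norm_of_congr hj (Nat.coprime_one_left _) (mem_normalizer_iff.2 fun w => by
        have hcW : t ∈ centralizer (W : Set G) :=
          centralizer_le (SetLike.coe_subset_coe.2 (le_orbitJoin W y)) hc
        constructor
        · intro hw; rwa [fix_of_mem_centralizer hcW hw]
        · intro hw
          have h1 := fix_of_mem_centralizer ((centralizer (W : Set G)).inv_mem hcW) hw
          have e : t⁻¹ * (t * w * t⁻¹) * t⁻¹⁻¹ = w := by group
          rw [e] at h1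
          rwa [h1])
    · exact ((relIndex_le_of_le_left (centralizer_le (Set.singleton_subset_iff.2 h.a_mem))
        Subgroup.index_ne_zero_of_finite).trans hle).trans hk2
  -- a conjugate moved by `A1`
  obtain ⟨n, hn⟩ : ∃ n, ¬ A1 ≤ centralizer ((cj (y ^ n) W : Subgroup G) : Set G) := by
    by_contra hno
    push Not at hno
    refine hA1 ?_
    rw [show V = ⨆ n, cj (y ^ n) W from rfl, PLocal.centralizer_iSup]
    exact le_iInf hno
  set W' := cj (y ^ n) W
  have hW'V : W' ≤ V := le_iSup (fun n => cj (y ^ n) W) n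
  have hact1 : ElemAct V A1 := hact.mono h.le
  have hact' : ElemAct W' A1 := hact1.restrict hW'V (h.A1_norm_cj n)
  have hpx := two_mul_le_of_lt (mv_pow' hact1) (mv_pow _ (isPGroup_elemAb hV))
    (hnoff A1 le_sup_left hact1 hA1).1
  have hx : mv A1 V = 2 * mv V A1 ∧ mv A V = 2 * mv V A1 := by omega
  have hsplit := mv_eq_of_le (A := A1) hW'V
  have hlt' := (hno' n A1 le_rfl hact' hn).1
  have hpW := two_mul_le_of_lt (mv_pow' hact') (mv_pow _ (isPGroup_elemAb (PLocal.elemAb_mono hV hW'V))) hlt'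
  set K := A1 ⊓ centralizer (W' : Set G)
  have hKV : K ≤ centralizer (V : Set G) := by
    by_contra hK
    have hactK : ElemAct V K := hact1.mono inf_le_left
    have hpK := two_mul_le_of_lt (mv_pow' hactK) (mv_pow _ (isPGroup_elemAb hV))
      (hnoff K (inf_le_left.trans le_sup_left) hactK hK).1
    have h4 := Nat.mul_le_mul hpW hpK
    have h5 : mv A1 W' * mv K V ≤ mv A1 V := mv_mul_le inf_le_left hW'V inf_le_right
    have h6 := mv_pos V A1
    have : 4 * mv V A1 ≤ 2 * mv V A1 := by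
      calc 4 * mv V A1 = (2 * mv W' A1) * (2 * mv V K) := by rw [hsplit]; ring
        _ ≤ _ := h4.trans (h5.trans hx.1.le)
    omega
  rw [mv_eq_one_iff.2 (PLocal.le_centralizer_comm hKV), one_mul] at hsplit
  have heq : mv A1 V ≤ mv A1 W' := by omega
  have hR := h.comm_mem hV hact hAW heq
  obtain ⟨t, j, hto, htV, htQ, hinv, hj, hfix⟩ := h.exists_rot hact n
  -- the fixed points of `A` and its conjugate
  set A' := cj (y ^ n) A
  set U := V ⊓ (centralizer (A : Set G) ⊓ centralizer (A' : Set G))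
  have hUA : ∀ x ∈ A, ∀ u ∈ U, x * u * x⁻¹ = u := fun x hx u hu => by
    rw [mem_centralizer_iff.1 hu.2.1 x hx, mul_inv_cancel_right]
  have htU : ∀ u ∈ U, t * u * t⁻¹ = u := by
    intro u hu
    refine hfix u ?_
    have e1 := hUA a h.a_mem u hu
    have e2 : (y ^ n * a * (y ^ n)⁻¹) * u * (y ^ n * a * (y ^ n)⁻¹)⁻¹ = u := by
      rw [mem_centralizer_iff.1 hu.2.2 _ (conj_mem_cj h.a_mem), mul_inv_cancel_right]
    set c := y ^ n * a * (y ^ n)⁻¹
    calc a * c * (a * c) * u * (a * c * (a * c))⁻¹ = a * (c * (a * (c * u * c⁻¹) * a⁻¹) * c⁻¹) * a⁻¹ := by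
          group
      _ = u := by rw [e2, e1, e2, e1]
  have hrU : ∀ v ∈ V, ∀ b ∈ A1, b * v * b⁻¹ * v⁻¹ ∈ U := by
    intro v hv b hb
    obtain ⟨hW, hW'⟩ := hR v hv b hb
    refine ⟨hW'V hW', mem_centralizer_iff.2 fun x hx => ?_, mem_centralizer_iff.2 fun x hx => ?_⟩
    · exact mul_inv_eq_iff_eq_mul.1 (fix_of_mem_centralizer (hAW hx) hW)
    · have hx' := mem_cj.1 hx
      have h8 := fix_of_mem_centralizer (hAW hx') (mem_cj.1 hW')
      set r := b * v * b⁻¹ * v⁻¹
      refine mul_inv_eq_iff_eq_mul.1 ?_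
      calc x * r * x⁻¹ = y ^ n * (((y ^ n)⁻¹ * x * y ^ n) * ((y ^ n)⁻¹ * r * y ^ n) *
            ((y ^ n)⁻¹ * x * y ^ n)⁻¹) * (y ^ n)⁻¹ := by group
        _ = r := by rw [h8]; group
  let M : Subgroup G :=
    { carrier := {m | m ∈ A1 ⊔ Q ∧ (∀ u ∈ U, m * u * m⁻¹ = u) ∧ ∀ v ∈ V, m * v * m⁻¹ * v⁻¹ ∈ U}
      one_mem' := ⟨one_mem _, fun u _ => by simp, fun v _ => by simp⟩
      mul_mem' := by
        rintro m m' ⟨h1, h2, h3⟩ ⟨h1', h2', h3'⟩
        refine ⟨mul_mem h1 h1', fun u hu => ?_, fun v hv => ?_⟩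
        · calc m * m' * u * (m * m')⁻¹ = m * (m' * u * m'⁻¹) * m⁻¹ := by group
            _ = u := by rw [h2' u hu, h2 u hu]
        · have e : m * m' * v * (m * m')⁻¹ * v⁻¹ = (m * (m' * v * m'⁻¹ * v⁻¹) * m⁻¹) * (m * v * m⁻¹ * v⁻¹) := by
            group
          rw [e, h2 _ (h3' v hv)]
          exact U.mul_mem (h3' v hv) (h3 v hv)
      inv_mem' := by
        rintro m ⟨h1, h2, h3⟩
        have hi : ∀ u ∈ U, m⁻¹ * u * m⁻¹⁻¹ = u := fun u hu => by
          calc m⁻¹ * u * m⁻¹⁻¹ = m⁻¹ * (m * u * m⁻¹) * m⁻¹⁻¹ := by rw [h2 u hu]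
            _ = u := by group
        refine ⟨inv_mem h1, hi, fun v hv => ?_⟩
        have hv' : m⁻¹ * v * m ∈ V := (mem_normalizer_iff''.1 (hQV h1) v).1 hv
        have := U.inv_mem (h3 _ hv')
        convert this using 1
        group }
  have hA1M : A1 ≤ M := fun b hb =>
    ⟨mem_sup_left hb, fun u hu => hUA b (h.le hb) u hu, fun v hv => hrU v hv b hb⟩
  have hMt : ∀ g : G, g ∈ normalizer ((A1 ⊔ Q : Subgroup G) : Set G) → g ∈ normalizer (V : Set G) →
      (∀ u ∈ U, g * u * g⁻¹ = u) → ∀ m ∈ M, g * m * g⁻¹ ∈ M := by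
    rintro g hgQ hgV hgU m ⟨h1, h2, h3⟩
    refine ⟨conj_mem hgQ h1, fun u hu => ?_, fun v hv => ?_⟩
    · have hgi : g⁻¹ * u * g = u := by
        calc g⁻¹ * u * g = g⁻¹ * (g * u * g⁻¹) * g := by rw [hgU u hu]
          _ = u := by group
      calc g * m * g⁻¹ * u * (g * m * g⁻¹)⁻¹ = g * (m * (g⁻¹ * u * g) * m⁻¹) * g⁻¹ := by group
        _ = u := by rw [hgi, h2 u hu, hgU u hu]
    · have hv' : g⁻¹ * v * g ∈ V := (mem_normalizer_iff''.1 hgV v).1 hv
      have e : g * m * g⁻¹ * v * (g * m * g⁻¹)⁻¹ * v⁻¹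
          = g * (m * (g⁻¹ * v * g) * m⁻¹ * (g⁻¹ * v * g)⁻¹) * g⁻¹ := by group
      rw [e, hgU _ (h3 _ hv')]
      exact h3 _ hv'
  -- two copies of `A1` in `M`
  have hindep : ∀ b ∈ A1, ∀ b2 ∈ A1, b⁻¹ * (t * b2 * t⁻¹) ∈ centralizer (V : Set G) →
      b ∈ centralizer (V : Set G) := by
    intro b hb b2 hb2 hbt
    set N := normalizer (V : Set G)
    haveI hn : ((centralizer (V : Set G)).subgroupOf N).Normal :=
      ⟨fun c hc g => mem_subgroupOf.2 (centralizer_normalizer g.2 hc)⟩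
    let ρ := QuotientGroup.mk' ((centralizer (V : Set G)).subgroupOf N)
    have hρ : ∀ {u v : N}, ρ u = ρ v ↔ (u : G)⁻¹ * v ∈ centralizer (V : Set G) := fun {u v} =>
      QuotientGroup.eq.trans mem_subgroupOf
    let aN : N := ⟨a, haN⟩
    let tN : N := ⟨t, htV⟩
    let bN : N := ⟨b, hact1.1 hb⟩
    let b2N : N := ⟨b2, hact1.1 hb2⟩
    have hρ2 : ∀ (x : G) (hx : x ∈ A), ρ ⟨x, hact.1 hx⟩ * ρ ⟨x, hact.1 hx⟩ = 1 := fun x hx => by
      rw [← map_mul]
      exact (QuotientGroup.eq_one_iff _).2 (mem_subgroupOf.2 (hact.2 x hx))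
    have hab : ∀ (x z : G) (hx : x ∈ A) (hz : z ∈ A),
        Commute (ρ ⟨x, hact.1 hx⟩) (ρ ⟨z, hact.1 hz⟩) := fun x z hx hz => by
      have h1 := hρ2 x hx
      have h2 := hρ2 z hz
      have h3 : (ρ ⟨x, hact.1 hx⟩ * ρ ⟨z, hact.1 hz⟩) * (ρ ⟨x, hact.1 hx⟩ * ρ ⟨z, hact.1 hz⟩) = 1 := by
        rw [← map_mul]; exact hρ2 (x * z) (A.mul_mem hx hz)
      show _ * _ = _ * _
      rw [eq_inv_of_mul_eq_one_left h3, mul_inv_rev, inv_eq_of_mul_eq_one_left h1, inv_eq_of_mul_eq_one_left h2]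
    have hb' : ρ bN = ρ tN * ρ b2N * (ρ tN)⁻¹ := by
      rw [← map_inv, ← map_mul, ← map_mul, hρ]; exact hbt
    have hinvρ : ρ aN * ρ tN * (ρ aN)⁻¹ = (ρ tN)⁻¹ := by
      rw [← mul_eq_one_iff_eq_inv, ← map_inv, ← map_mul, ← map_mul, ← map_mul]
      exact (QuotientGroup.eq_one_iff _).2 (mem_subgroupOf.2 hinv)
    have c1 : Commute (ρ aN) (ρ bN) := hab a b h.a_mem (h.le hb)
    have c2 : Commute (ρ tN * ρ aN * (ρ tN)⁻¹) (ρ bN) := by
      rw [hb']
      exact (Commute.conj_iff (ρ tN)).2 (hab a b2 h.a_mem (h.le hb2))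
    have c3 : Commute (ρ tN * ρ tN) (ρ bN) := by
      have e : ρ tN * ρ tN = (ρ tN * ρ aN * (ρ tN)⁻¹) * ρ aN := by
        have ha1 := hρ2 a h.a_mem
        have hai : (ρ aN)⁻¹ = ρ aN := inv_eq_of_mul_eq_one_left ha1
        calc ρ tN * ρ tN = ρ tN * (ρ aN * ρ tN * (ρ aN)⁻¹)⁻¹ := by rw [hinvρ, inv_inv]
          _ = ρ tN * (ρ aN * (ρ tN)⁻¹ * (ρ aN)⁻¹) := by group
          _ = _ := by rw [hai]; group
      rw [e]
      exact c2.mul_left c1
    have c4 : Commute (ρ tN) (ρ bN) := by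
      obtain ⟨k, hk⟩ := hto
      have h1 : tN ^ orderOf t = 1 := Subtype.ext (by push_cast; exact pow_orderOf_eq_one t)
      have h2 : ρ tN = ((ρ tN * ρ tN) ^ k)⁻¹ := by
        refine eq_inv_of_mul_eq_one_left ?_
        rw [← sq, ← pow_mul, ← pow_succ', ← map_pow, ← hk, h1, map_one]
      rw [h2]
      exact (c3.pow_left k).inv_left
    -- so `b` centralises the conjugate
    have hbW : ∀ w ∈ W, b * w * b⁻¹ = w := fun w hw => fix_of_mem_centralizer (hAW (h.le hb)) hw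
    refine hKV ⟨hb, mem_centralizer_of_fix fun w hw => ?_⟩
    have h7 : cj (t ^ j * y ^ n) W = W := cj_eq_self_iff.2 (h.Q_norm hj)
    have hw0 : t ^ j * w * (t ^ j)⁻¹ ∈ W := by
      rw [← h7, ← cj_cj]; exact conj_mem_cj hw
    have hcj : (t ^ j * b)⁻¹ * (b * t ^ j) ∈ centralizer (V : Set G) := by
      have h8 : ρ (tN ^ j * bN) = ρ (bN * tN ^ j) := by
        rw [map_mul, map_mul, map_pow]; exact (c4.pow_left j).eq
      have := hρ.1 h8
      simpa [tN, bN] using this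
    have h9 := conj_congr hcj (hW'V hw)
    calc b * w * b⁻¹ = (t ^ j)⁻¹ * (t ^ j * b * w * (t ^ j * b)⁻¹) * t ^ j := by group
      _ = (t ^ j)⁻¹ * (b * (t ^ j * w * (t ^ j)⁻¹) * b⁻¹) * t ^ j := by rw [h9]; group
      _ = w := by rw [hbW _ hw0]; group
  have hAM' : ∀ b ∈ A1, t * b * t⁻¹ ∈ M := fun b hb => hMt t htQ htV htU b (hA1M hb)
  have hMact : M ≤ normalizer (V : Set G) := fun m hm => hQV hm.1
  have hmvM : mv V A1 * mv V A1 ≤ mv V M := by
    haveI hn : ((centralizer (V : Set G)).subgroupOf M).Normal :=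
      ⟨fun c hc g => mem_subgroupOf.2 (centralizer_normalizer (hMact g.2) hc)⟩
    haveI hn1 : ((centralizer (V : Set G)).subgroupOf A1).Normal :=
      ⟨fun c hc g => mem_subgroupOf.2 (centralizer_normalizer (hact1.1 g.2) hc)⟩
    simp only [mv, relIndex, index_eq_card, ← Nat.card_prod]
    refine Nat.card_le_card_of_injective (fun p => QuotientGroup.mk
      (⟨p.1.out * (t * p.2.out * t⁻¹), M.mul_mem (hA1M p.1.out.2) (hAM' _ p.2.out.2)⟩ : M)) ?_
    rintro ⟨x1, y1⟩ ⟨x2, y2⟩ heq'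
    have h1 := mem_subgroupOf.1 (QuotientGroup.eq.1 heq')
    push_cast at h1
    set b1 : G := (x1.out : G)
    set b2 : G := (x2.out : G)
    set e1 : G := (y1.out : G)
    set e2 : G := (y2.out : G)
    have hC : ∀ g ∈ M, ∀ c ∈ centralizer (V : Set G), g * c * g⁻¹ ∈ centralizer (V : Set G) :=
      fun g hg c hc => centralizer_normalizer (hMact hg) hc
    have h2 : (b1⁻¹ * b2)⁻¹ * (t * (e1 * e2⁻¹) * t⁻¹) ∈ centralizer (V : Set G) := by
      have h3 := (centralizer (V : Set G)).inv_mem (hC _ (hAM' e1 y1.out.2) _ h1)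
      have h4 := hC _ (M.inv_mem (M.mul_mem (M.inv_mem (hA1M x1.out.2)) (hA1M x2.out.2))) _ h3
      convert h4 using 1
      simp only [b1, b2]
      group
    have h5 := hindep _ (A1.mul_mem (A1.inv_mem x1.out.2) x2.out.2) _
      (A1.mul_mem y1.out.2 (A1.inv_mem y2.out.2)) h2
    have hx12 : x1 = x2 := by
      rw [← QuotientGroup.out_eq' x1, ← QuotientGroup.out_eq' x2]
      exact QuotientGroup.eq.2 (mem_subgroupOf.2 h5)
    subst hx12
    have h6 : (e1 * 1)⁻¹ * e2 ∈ centralizer (V : Set G) := by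
      have h7 : t * (e1⁻¹ * e2) * t⁻¹ ∈ centralizer (V : Set G) := by
        convert h1 using 1
        simp only [b1, b2]
        group
      have := centralizer_normalizer (inv_mem htV) h7
      convert this using 1
      group
    rw [mul_one] at h6
    refine Prod.ext rfl ?_
    show y1 = y2
    rw [← QuotientGroup.out_eq' y1, ← QuotientGroup.out_eq' y2]
    exact QuotientGroup.eq.2 (mem_subgroupOf.2 h6)
  -- a power acting with prime order
  have htC : t ∉ centralizer (V : Set G) := by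
    intro hc
    obtain ⟨b, hb, hb'⟩ := SetLike.not_le_iff_exists.1 hn
    refine hb' (mem_centralizer_of_fix fun w hw => ?_)
    have hw1 : t ^ j * w * (t ^ j)⁻¹ = w := fix_of_mem_centralizer (pow_mem hc j) (hW'V hw)
    have h7 : cj (t ^ j * y ^ n) W = W := cj_eq_self_iff.2 (h.Q_norm hj)
    have hw0 : t ^ j * w * (t ^ j)⁻¹ ∈ W := by rw [← h7, ← cj_cj]; exact conj_mem_cj hw
    rw [hw1] at hw0
    exact fix_of_mem_centralizer (hAW (h.le hb)) hw0
  obtain ⟨l, q, hq, hq2, hsq, hs1⟩ := exists_prime_power_act hto htC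
  haveI : Fact q.Prime := ⟨hq⟩
  set s := t ^ l
  have hsU : ∀ u ∈ U, s * u * s⁻¹ = u := by
    intro u hu
    have h7 : t ^ l ∈ centralizer ({u} : Set G) := pow_mem
      (mem_centralizer_singleton_iff.2 (mul_inv_eq_iff_eq_mul.1 (htU u hu))) l
    rw [mem_centralizer_singleton_iff.1 h7, mul_inv_cancel_right]
  have hbound : U.relIndex V ≤ 4 * mv V M := by
    have e2 : mv A' V = mv A V := by
      rw [← mv_cj (y ^ n) A V, cj_eq_self_iff.2 (pow_mem h.y_norm n)]
    calc U.relIndex V = (centralizer (A : Set G) ⊓ centralizer (A' : Set G)).relIndex V := by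
          rw [show U = V ⊓ (centralizer (A : Set G) ⊓ centralizer (A' : Set G)) from rfl, inf_relIndex_left]
      _ ≤ mv A V * mv A' V := relIndex_inf_le
      _ = 4 * (mv V A1 * mv V A1) := by rw [e2, hx.2]; ring
      _ ≤ 4 * mv V M := Nat.mul_le_mul_left 4 hmvM
  exact hS4 (involves_of_counting hV hq2 haN (hact.2 a h.a_mem) (pow_mem htV l)
    (inv_pow_act htV hinv l) hsq hs1 inf_le_left hsU
    (hMt s (pow_mem htQ l) (pow_mem htV l) hsU) (fun m hm => hm.2.1) (fun m hm => hm.2.2)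
    (fun m hm => hm.1) hnoff (fun hc => hA1 (hA1M.trans hc)) hbound)

end Pair

end Cfsg.Agent.StellmacherW
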