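/-
An elementary subgroup `W(S)` for solvable `S₄`-free groups (helper70): `W ≤ O₂(G)`.

* `Cand S W`: `W` is an elementary abelian normal subgroup of `S` on which `S` has no offenders
* `cand_le_pCore`: such a subgroup lies in `O₂(G)`
-/
import Cfsg.Agent.Lib.StellmacherW.Setup

set_option autoImplicit false
set_option linter.style.haveILetI false

namespace Cfsg.Agent.StellmacherW

open Subgroup

variable {G : Type*} [Group G] [Finite G]

/-- An elementary abelian normal subgroup of `S` without offenders. -/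
structure Cand (S W : Subgroup G) : Prop where
  le : W ≤ S
  normal : S ≤ normalizer (W : Set G)
  elem : Cfsg.IsElementaryAbelian 2 W
  noOff : NoOff S W

/-- Equal relative indices of comparable subgroups. -/
theorem inf_le_of_relIndex_le {H K X : Subgroup G} (hle : H ≤ K)
    (h : H.relIndex X ≤ K.relIndex X) : X ⊓ K ≤ H := by
  have h1 : (H ⊓ X).relIndex (K ⊓ X) * (K ⊓ X).relIndex X = (H ⊓ X).relIndex X :=
    relIndex_mul_relIndex _ _ _ (inf_le_inf_right X hle) inf_le_right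
  rw [inf_relIndex_right, inf_relIndex_right] at h1
  have h2 : (H ⊓ X).relIndex (K ⊓ X) = 1 := by
    have hp : 0 < K.relIndex X := Nat.pos_of_ne_zero Subgroup.index_ne_zero_of_finite
    have hp' : 0 < (H ⊓ X).relIndex (K ⊓ X) := Nat.pos_of_ne_zero Subgroup.index_ne_zero_of_finite
    nlinarith
  exact fun x hx => (relIndex_eq_one.1 h2 ⟨hx.2, hx.1⟩).1

theorem half_lt {R W W' B B' : Subgroup G} (hB'el : ∀ b ∈ B', b ^ 2 = 1) (h : NoOff R W)
    (hR : B' ≤ R) (hN : B' ≤ normalizer (W : Set G)) (hB : B ≤ W) (hidx : B.relIndex W ≤ 2)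
    (hB' : B' ≤ W') (hne : ¬ B' ≤ centralizer (W : Set G)) : mv W B' < 2 * mv W' B :=
  ((h B' hR (ElemAct.of_sq_eq_one hN hB'el) hne).1.trans_le (mv_le_two_mul hB hidx B')).trans_le
    (Nat.mul_le_mul_left 2 (relIndex_le_of_le_left (centralizer_le (SetLike.coe_subset_coe.2 hB'))
      Subgroup.index_ne_zero_of_finite))

theorem half_eq {R W W' B B' : Subgroup G} (hW : Cfsg.IsElementaryAbelian 2 W)
    (hB'el : ∀ b ∈ B', b ^ 2 = 1) (h : NoOff R W)
    (hR : B' ≤ R) (hN : B' ≤ normalizer (W : Set G)) (hB : B ≤ W) (hidx : B.relIndex W ≤ 2)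
    (hB' : B' ≤ W') (heq : mv W B' = mv W' B) :
    Quad W B' ∧ B ⊓ centralizer (B' : Set G) ≤ centralizer (W' : Set G) := by
  by_cases hne : B' ≤ centralizer (W : Set G)
  · refine ⟨quad_of_le_centralizer hne, inf_le_left.trans ?_⟩
    rw [mv_eq_one_iff.2 (PLocal.le_centralizer_comm hne)] at heq
    exact PLocal.le_centralizer_comm (mv_eq_one_iff.1 heq.symm)
  obtain ⟨hlt, hq⟩ := h B' hR (ElemAct.of_sq_eq_one hN hB'el) hne
  have h1 := mv_le_two_mul hB hidx B'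
  have h2 : mv B' B ≤ mv W' B :=
    relIndex_le_of_le_left (centralizer_le (SetLike.coe_subset_coe.2 hB')) Subgroup.index_ne_zero_of_finite
  refine ⟨hq (by rw [heq]; exact h1.trans (Nat.mul_le_mul_left 2 h2)), ?_⟩
  have h3 := two_mul_le_of_lt (mv_pow' (ElemAct.of_sq_eq_one hN hB'el))
    (mv_pow B' (isPGroup_elemAb hW)) hlt
  refine inf_le_of_relIndex_le (centralizer_le (SetLike.coe_subset_coe.2 hB')) ?_
  show mv W' B ≤ mv B' B
  omega

theorem cand_le_pCore (hsol : Group.IsSolvable G)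
    (hchar : centralizer (Cfsg.pCore 2 G : Set G) ≤ Cfsg.pCore 2 G) {S : Sylow 2 G} {W : Subgroup G}
    (hW : Cand (S : Subgroup G) W) (hM : Maxi S (normalizer (W : Set G))) :
    W ≤ Cfsg.pCore 2 G := by
  classical
  by_contra hWQ
  set Q := Cfsg.pCore 2 G
  haveI : Q.Normal := Cores.pCore_normal 2 G
  haveI := hW.elem.1
  obtain ⟨a, ha, B, hBW, haB, hcov, hWQB, y, hyo, hyM, hay, hby⟩ :=
    hM.exists_split hsol hW.le hWQ (fun x hx => by rw [elemAb_mul_self hW.elem hx]; exact Q.one_mem)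
  have hidx := relIndex_le_two hcov ha
  set Q1 := B ⊔ Q
  have hQS : Q ≤ (S : Subgroup G) := Cores.pCore_le_sylow S
  have hQ1S : Q1 ≤ (S : Subgroup G) := sup_le (hBW.trans hW.le) hQS
  have hQ1W : W ⊓ Q1 ≤ B := by
    rintro x ⟨hxW, hxQ⟩
    obtain ⟨b, hb, q, hq, rfl⟩ := mem_sup_of_normal_right.1 hxQ
    refine B.mul_mem hb (hWQB ⟨?_, hq⟩)
    simpa using W.mul_mem (W.inv_mem (hBW hb)) hxW
  have haQ1 : ∀ w ∈ W, w ∈ normalizer (Q1 : Set G) := fun w hw =>
    Coprime.mem_normalizer_of_forall fun x hx => by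
      obtain ⟨b, hb, q, hq, rfl⟩ := mem_sup_of_normal_right.1 hx
      have e : w * (b * q) * w⁻¹ = b * (w * q * w⁻¹) := by
        rw [← mul_assoc w, setLike_mul_comm hw (hBW hb)]; group
      rw [e]
      exact mul_mem_sup hb (Normal.conj_mem inferInstance q hq w)
  -- `y` normalises `Q1`
  have hyQ1 : cj y Q1 = Q1 := by
    refine cj_eq_self_iff.2 (Coprime.mem_normalizer_of_forall fun x hx => ?_)
    obtain ⟨b, hb, q, hq, rfl⟩ := mem_sup_of_normal_right.1 hx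
    have e : y * (b * q) * y⁻¹ = b * ((b⁻¹ * (b * y * b⁻¹ * y⁻¹)⁻¹ * b) * (y * q * y⁻¹)) := by
      group
    rw [e]
    refine mul_mem_sup hb (Q.mul_mem ?_ (Normal.conj_mem inferInstance q hq y))
    exact Normal.conj_mem' inferInstance _ (Q.inv_mem (hby b hb)) b
  -- the conjugate pair
  set W' := cj y W
  set B' := cj y B
  have hW'el : Cfsg.IsElementaryAbelian 2 W' := elemAb_cj y hW.elem
  have hB'W : B' ≤ W' := map_mono hBW
  have hB'Q1 : B' ≤ Q1 := (map_mono le_sup_left).trans hyQ1.le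
  have hidx' : B'.relIndex W' ≤ 2 :=
    (relIndex_map_map_of_injective B W (MulAut.conj y).injective).trans_le hidx
  have hQ1' : Q1 ≤ cj y (S : Subgroup G) := hyQ1.ge.trans (map_mono hQ1S)
  have hQ1N : Q1 ≤ normalizer (W : Set G) := hQ1S.trans hW.normal
  have hQ1N' : Q1 ≤ normalizer (W' : Set G) := fun q hq => by
    refine cj_eq_self_iff.1 ?_
    have h1 : y⁻¹ * q * y ∈ Q1 := by
      rw [← hyQ1] at hq
      exact mem_cj.1 hq
    calc cj q (cj y W) = cj y (cj (y⁻¹ * q * y) W) := by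
          rw [cj_cj, cj_cj, show y * (y⁻¹ * q * y) = q * y by group]
      _ = W' := by rw [cj_eq_self_iff.2 (hQ1N h1)]
  have hBel : ∀ b ∈ B, b ^ 2 = 1 := fun b hb => hW.elem.2 b (hBW hb)
  have hB'el : ∀ b ∈ B', b ^ 2 = 1 := fun b hb => hW'el.2 b (hB'W hb)
  have hno := hW.noOff
  have hno' : NoOff (cj y (S : Subgroup G)) W' := noOff_cj y hW.noOff
  have hBN : B ≤ normalizer (W' : Set G) := le_sup_left.trans hQ1N'
  have hB'N : B' ≤ normalizer (W : Set G) := hB'Q1.trans hQ1N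
  have hBR : B ≤ cj y (S : Subgroup G) := le_sup_left.trans hQ1'
  have hB'R : B' ≤ (S : Subgroup G) := hB'Q1.trans hQ1S
  have heq : mv W B' = mv W' B := by
    have h1 : ∀ {R X X' Y Y' : Subgroup G}, (∀ b ∈ Y', b ^ 2 = 1) → NoOff R X → Y' ≤ R →
        Y' ≤ normalizer (X : Set G) → Y ≤ X → Y.relIndex X ≤ 2 → Y' ≤ X' →
        (∀ b ∈ Y, b ^ 2 = 1) → Y ≤ normalizer (X' : Set G) → mv X Y' ≤ mv X' Y := by
      intro R X X' Y Y' hel hn hR hN hY hi hY' hel' hN'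
      by_cases hne : Y' ≤ centralizer (X : Set G)
      · rw [mv_eq_one_iff.2 (PLocal.le_centralizer_comm hne)]; exact mv_pos _ _
      by_contra hlt
      have := two_mul_le_of_lt (mv_pow' (ElemAct.of_sq_eq_one hN' hel'))
        (mv_pow' (ElemAct.of_sq_eq_one hN hel)) (not_le.1 hlt)
      have := half_lt hel hn hR hN hY hi hY' hne
      omega
    exact le_antisymm (h1 hB'el hno hB'R hB'N hBW hidx hB'W hBel hBN)
      (h1 hBel hno' hBR hBN hB'W hidx' hBW hB'el hB'N)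
  obtain ⟨hq, hZ⟩ := half_eq hW.elem hB'el hno hB'R hB'N hBW hidx hB'W heq
  obtain ⟨hq', hZ'⟩ := half_eq hW'el hBel hno' hBR hBN hB'W hidx' hBW heq.symm
  set Z := (B ⊓ centralizer (W' : Set G)) ⊔ (B' ⊓ centralizer (W : Set G))
  set N := B ⊔ B'
  have hNQ1 : N ≤ Q1 := sup_le le_sup_left hB'Q1
  have hZN : Z ≤ N := sup_le_sup inf_le_left inf_le_left
  have hZcent : N ≤ centralizer (Z : Set G) := by
    refine sup_le ?_ ?_ <;> rw [PLocal.centralizer_sup]
    · exact le_inf (fun b hb => mem_centralizer_iff.2 fun z hz => setLike_mul_comm (hBW hz.1) (hBW hb))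
        fun b hb => mem_centralizer_iff.2 fun z hz => (mem_centralizer_iff.1 hz.2 b (hBW hb)).symm
    · haveI := hW'el.1
      exact le_inf (fun b hb => mem_centralizer_iff.2 fun z hz => (mem_centralizer_iff.1 hz.2 b (hB'W hb)).symm)
        fun b hb => mem_centralizer_iff.2 fun z hz => setLike_mul_comm (hB'W hz.1) (hB'W hb)
  let P : G → Prop := fun g => (∀ z ∈ Z, g * z * g⁻¹ = z) ∧ (∀ n ∈ N, g * n * g⁻¹ * n⁻¹ ∈ Z) ∧
    ∀ q ∈ Q1, g * q * g⁻¹ * q⁻¹ ∈ N
  have hPmul : ∀ g h, P g → P h → P (g * h) := by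
    rintro g h ⟨g1, g2, g3⟩ ⟨h1, h2, h3⟩
    refine ⟨fun z hz => ?_, fun n hn => ?_, fun q hq => ?_⟩
    · calc g * h * z * (g * h)⁻¹ = g * (h * z * h⁻¹) * g⁻¹ := by group
        _ = z := by rw [h1 z hz, g1 z hz]
    · have e : g * h * n * (g * h)⁻¹ * n⁻¹ = (g * (h * n * h⁻¹ * n⁻¹) * g⁻¹) * (g * n * g⁻¹ * n⁻¹) := by
        group
      rw [e, g1 _ (h2 n hn)]
      exact Z.mul_mem (h2 n hn) (g2 n hn)
    · have e : g * h * q * (g * h)⁻¹ * q⁻¹ = (g * (h * q * h⁻¹ * q⁻¹) * g⁻¹) * (g * q * g⁻¹ * q⁻¹) := by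
        group
      rw [e]
      refine N.mul_mem ?_ (g3 q hq)
      have := N.mul_mem (hZN (g2 _ (h3 q hq))) (h3 q hq)
      rwa [inv_mul_cancel_right] at this
  have hgen : ∀ (g : G), (∀ b ∈ B, g * b * g⁻¹ * b⁻¹ ∈ Z) → (∀ b ∈ B', g * b * g⁻¹ * b⁻¹ ∈ Z) →
      ∀ n ∈ N, g * n * g⁻¹ * n⁻¹ ∈ Z := by
    intro g h1 h2 n hn
    let K : Subgroup G :=
      { carrier := {n | n ∈ N ∧ g * n * g⁻¹ * n⁻¹ ∈ Z}
        one_mem' := ⟨N.one_mem, by simp⟩
        mul_mem' := by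
          rintro u v ⟨hu, hu'⟩ ⟨hv, hv'⟩
          refine ⟨N.mul_mem hu hv, ?_⟩
          have hc := fix_of_mem_centralizer (hZcent hu) hv'
          have e : g * (u * v) * g⁻¹ * (u * v)⁻¹
              = (g * u * g⁻¹ * u⁻¹) * (u * (g * v * g⁻¹ * v⁻¹) * u⁻¹) := by group
          rw [e, hc]
          exact Z.mul_mem hu' hv'
        inv_mem' := by
          rintro u ⟨hu, hu'⟩
          refine ⟨N.inv_mem hu, ?_⟩
          have hc := fix_of_mem_centralizer (hZcent (N.inv_mem hu)) (Z.inv_mem hu')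
          have e : g * u⁻¹ * g⁻¹ * u⁻¹⁻¹ = u⁻¹ * (g * u * g⁻¹ * u⁻¹)⁻¹ * u⁻¹⁻¹ := by group
          rw [e, hc]
          exact Z.inv_mem hu' }
    exact ((sup_le (fun b hb => ⟨mem_sup_left hb, h1 b hb⟩) fun b hb => ⟨mem_sup_right hb, h2 b hb⟩ :
      N ≤ K) hn).2
  have hPa : P a := by
    refine ⟨fun z hz => ?_, hgen a (fun b hb => ?_) (fun b hb => ?_), fun q hq1 => ?_⟩
    · refine fix_of_mem_centralizer ?_ hz
      rw [PLocal.centralizer_sup]
      exact ⟨mem_centralizer_iff.2 fun z hz => setLike_mul_comm (hBW hz.1) ha,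
        mem_centralizer_iff.2 fun z hz => (mem_centralizer_iff.1 hz.2 a ha).symm⟩
    · rw [setLike_mul_comm ha (hBW hb)]; simp
    · refine mem_sup_left ?_
      have h1 : a * b * a⁻¹ * b⁻¹ ∈ W := by
        have := W.mul_mem ha (conj_mem (hB'N hb) (W.inv_mem ha))
        simpa [mul_assoc] using this
      have h2 : a * b * a⁻¹ * b⁻¹ ∈ B := hQ1W ⟨h1, Q1.mul_mem
        (conj_mem (haQ1 a ha) (hB'Q1 hb)) (Q1.inv_mem (hB'Q1 hb))⟩
      refine ⟨h2, hZ ⟨h2, mem_centralizer_iff.2 fun c hc => ?_⟩⟩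
      have h3 := hq a⁻¹ (W.inv_mem ha) b hb c hc
      have e : b * a⁻¹ * b⁻¹ * a⁻¹⁻¹ = a * b * a⁻¹ * b⁻¹ := by
        rw [setLike_mul_comm (conj_mem (hB'N hb) (W.inv_mem ha)) (W.inv_mem (W.inv_mem ha)),
          inv_inv, ← mul_assoc, ← mul_assoc]
      rw [e] at h3
      exact mul_inv_eq_iff_eq_mul.1 h3
    · refine mem_sup_left (hQ1W ⟨?_, Q1.mul_mem (conj_mem (haQ1 a ha) hq1) (Q1.inv_mem hq1)⟩)
      have := W.mul_mem ha (conj_mem (hQ1N hq1) (W.inv_mem ha))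
      simpa [mul_assoc] using this
  set a' := y * a * y⁻¹
  have ha' : a' ∈ W' := conj_mem_cj ha
  have hPa' : P a' := by
    haveI := hW'el.1
    have hQ1W' : W' ⊓ Q1 ≤ B' := by
      rintro x ⟨hx, hx'⟩
      rw [← hyQ1] at hx'
      exact mem_cj.2 (hQ1W ⟨mem_cj.1 hx, mem_cj.1 hx'⟩)
    have ha'Q1 : a' ∈ normalizer (Q1 : Set G) :=
      mul_mem (mul_mem (cj_eq_self_iff.1 hyQ1) (haQ1 a ha)) (inv_mem (cj_eq_self_iff.1 hyQ1))
    refine ⟨fun z hz => ?_, hgen a' (fun b hb => ?_) (fun b hb => ?_), fun q hq1 => ?_⟩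
    · refine fix_of_mem_centralizer ?_ hz
      rw [PLocal.centralizer_sup]
      exact ⟨mem_centralizer_iff.2 fun z hz => (mem_centralizer_iff.1 hz.2 a' ha').symm,
        mem_centralizer_iff.2 fun z hz => setLike_mul_comm (hB'W hz.1) ha'⟩
    · refine mem_sup_right ?_
      have h1 : a' * b * a'⁻¹ * b⁻¹ ∈ W' := by
        have := W'.mul_mem ha' (conj_mem (hBN hb) (W'.inv_mem ha'))
        simpa [mul_assoc] using this
      have hbQ : b ∈ Q1 := mem_sup_left hb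
      have h2 : a' * b * a'⁻¹ * b⁻¹ ∈ B' := hQ1W' ⟨h1, Q1.mul_mem
        (conj_mem ha'Q1 hbQ) (Q1.inv_mem hbQ)⟩
      refine ⟨h2, hZ' ⟨h2, mem_centralizer_iff.2 fun c hc => ?_⟩⟩
      have h3 := hq' a'⁻¹ (W'.inv_mem ha') b hb c hc
      have e : b * a'⁻¹ * b⁻¹ * a'⁻¹⁻¹ = a' * b * a'⁻¹ * b⁻¹ := by
        rw [setLike_mul_comm (conj_mem (hBN hb) (W'.inv_mem ha')) (W'.inv_mem (W'.inv_mem ha')),
          inv_inv, ← mul_assoc, ← mul_assoc]
      rw [e] at h3
      exact mul_inv_eq_iff_eq_mul.1 h3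
    · rw [setLike_mul_comm ha' (hB'W hb)]; simp
    · refine mem_sup_right (hQ1W' ⟨?_, Q1.mul_mem (conj_mem ha'Q1 hq1) (Q1.inv_mem hq1)⟩)
      have := W'.mul_mem ha' (conj_mem (hQ1N' hq1) (W'.inv_mem ha'))
      simpa [mul_assoc] using this
  set t := a * a'
  have hPpow : ∀ n : ℕ, P (t ^ n) := by
    intro n
    induction n with
    | zero => exact ⟨fun z _ => by simp, fun n _ => by simp, fun q _ => by simp⟩
    | succ n ih => rw [pow_succ]; exact hPmul _ _ ih (hPmul _ _ hPa hPa')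
  obtain ⟨e, o, ho, hord⟩ := Nat.exists_eq_pow_mul_and_not_dvd (orderOf_pos t).ne' 2 (by norm_num)
  set t0 := t ^ (2 ^ e)
  have hto : t0 ^ o = 1 := by rw [← pow_mul, ← hord, pow_orderOf_eq_one]
  have hoodd : Odd o := Nat.not_even_iff_odd.1 fun h => ho (even_iff_two_dvd.1 h)
  obtain ⟨p1, p2, p3⟩ : P t0 := hPpow _
  have hZQ : ∀ z ∈ N, z ^ o = 1 → z = 1 := by
    intro z hz hzo
    obtain ⟨j, hj⟩ := S.isPGroup' ⟨z, hQ1S (hNQ1 hz)⟩
    have hj' : z ^ 2 ^ j = 1 := congrArg Subtype.val hj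
    have := Nat.dvd_gcd (orderOf_dvd_of_pow_eq_one hzo) (orderOf_dvd_of_pow_eq_one hj')
    rw [Nat.Coprime.pow_right j (Nat.coprime_two_right.2 hoodd)] at this
    exact orderOf_eq_one_iff.1 (Nat.dvd_one.1 this)
  have hstab : ∀ X : Subgroup G, X ≤ N → (∀ x ∈ X, t0 * x * t0⁻¹ = x) → ∀ v : G,
      t0 * v * t0⁻¹ * v⁻¹ ∈ X → t0 * v * t0⁻¹ = v := by
    intro X hX hfix v hv
    set z := t0 * v * t0⁻¹ * v⁻¹
    have hpow : ∀ i : ℕ, t0 ^ i * v * (t0 ^ i)⁻¹ = z ^ i * v := by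
      intro i
      induction i with
      | zero => simp
      | succ i ih =>
        calc t0 ^ (i + 1) * v * (t0 ^ (i + 1))⁻¹ = t0 * (t0 ^ i * v * (t0 ^ i)⁻¹) * t0⁻¹ := by
              rw [pow_succ']; group
          _ = (t0 * z * t0⁻¹) ^ i * (t0 * v * t0⁻¹) := by rw [ih, conj_pow]; group
          _ = z ^ i * (z * v) := by
              rw [hfix z hv, show t0 * v * t0⁻¹ = z * v from (inv_mul_cancel_right _ v).symm]
          _ = z ^ (i + 1) * v := by rw [pow_succ]; exact (mul_assoc _ _ _).symm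
    have h1 := hpow o
    rw [hto, one_mul, inv_one, mul_one] at h1
    have h2 : z ^ o = 1 := mul_right_cancel (b := v) (by rw [one_mul]; exact h1.symm)
    exact mul_inv_eq_one.1 (hZQ z (hX hv) h2)
  have hfixN : ∀ n ∈ N, t0 * n * t0⁻¹ = n := fun n hn => hstab Z hZN p1 n (p2 n hn)
  have ht0Q : t0 ∈ Q := hchar (mem_centralizer_of_fix fun q hq =>
    hstab N le_rfl hfixN q (p3 q (mem_sup_right hq)))
  -- but `t0` is a nontrivial power of `y` modulo `Q`
  apply hyM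
  refine hM.le (hQS ?_)
  set π := QuotientGroup.mk' Q
  have hker : ∀ {g : G}, π g = 1 ↔ g ∈ Q := fun {g} => QuotientGroup.eq_one_iff g
  have hπa : π a * π a = 1 := by
    rw [← map_mul, hker, elemAb_mul_self hW.elem ha]; exact Q.one_mem
  have hπt : π t = (π y ^ 2)⁻¹ := by
    have h1 : π a * π y * (π a)⁻¹ = (π y)⁻¹ := by
      rw [← mul_eq_one_iff_eq_inv, ← map_inv, ← map_mul, ← map_mul, ← map_mul, hker]
      exact hay
    rw [inv_eq_of_mul_eq_one_left hπa] at h1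
    simp only [t, a', map_mul, map_inv]
    calc π a * (π y * π a * (π y)⁻¹) = π a * π y * π a * (π y)⁻¹ := by group
      _ = _ := by rw [h1]; group
  refine hker.1 (orderOf_eq_one_iff.1 (Nat.dvd_one.1 ?_))
  have h1 : π y ^ (2 ^ (e + 1)) = 1 := by
    have h2 : π t0 = 1 := hker.2 ht0Q
    rw [map_pow, hπt, inv_pow, inv_eq_one, ← pow_mul, ← pow_succ'] at h2
    exact h2
  have h3 := Nat.dvd_gcd (orderOf_dvd_of_pow_eq_one h1) (orderOf_map_dvd π y)
  rwa [Nat.Coprime.pow_left (e + 1) (Nat.coprime_two_left.2 hyo)] at h3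

end Cfsg.Agent.StellmacherW
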