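/-
An elementary subgroup `W(S)` for solvable `S₄`-free groups (helper70): the normal closure.

* `noOff_normalClosure`: if `S` has no offenders on `W` then none on the normal closure of `W` in `G`
-/
import Cfsg.Agent.Lib.StellmacherW.Core

set_option autoImplicit false
set_option linter.style.haveILetI false

namespace Cfsg.Agent.StellmacherW

open Subgroup

variable {G : Type*} [Group G] [Finite G]

/-- Restriction of a best offender to an invariant subgroup. -/
theorem mv_le_of_best {A V V1 : Subgroup G} (hV1 : V1 ≤ V)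
    (h : mv V (A ⊓ centralizer (V1 : Set G)) * mv A V ≤
      mv V A * mv (A ⊓ centralizer (V1 : Set G)) V) : mv A V1 ≤ mv V1 A := by
  set K := A ⊓ centralizer (V1 : Set G)
  have hk : mv V A = mv V K * mv V1 A := mv_eq_of_le hV1
  have hx : mv A V1 * mv K V ≤ mv A V := mv_mul_le inf_le_left hV1 inf_le_right
  have h1 := Nat.mul_le_mul_left (mv V K) hx
  rw [hk] at h
  have h2 : mv V K * mv K V * mv A V1 ≤ mv V K * mv K V * mv V1 A := by
    calc mv V K * mv K V * mv A V1 = mv V K * (mv A V1 * mv K V) := by ring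
      _ ≤ mv V K * mv A V := h1
      _ ≤ _ := h
      _ = _ := by ring
  exact Nat.le_of_mul_le_mul_left h2 (Nat.mul_pos (mv_pos _ _) (mv_pos _ _))

/-- `V = X C_V(A)` when `X` carries the whole displacement. -/
theorem sup_fixed_eq {A X V : Subgroup G} (hc : IsMulCommutative V) (hXV : X ≤ V)
    (h : mv A V ≤ mv A X) : X ⊔ V ⊓ centralizer (A : Set G) = V := by
  haveI := hc
  refine eq_of_le_of_card_ge (sup_le hXV inf_le_left) ?_
  have h3 := PLocal.card_sup_mul_card_inf (H := X) (K := V ⊓ centralizer (A : Set G))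
    (fun x hx => centralizer_le_normalizer _
      (mem_centralizer_iff.2 fun w hw => setLike_mul_comm (hXV hw) (inf_le_left (a := V) hx)))
  have e : ∀ Y : Subgroup G, Nat.card (Y ⊓ centralizer (A : Set G) : Subgroup G) * mv A Y = Nat.card Y := by
    intro Y
    rw [mv, relIndex, inf_comm, ← Nat.card_congr (subgroupOfEquivOfLe inf_le_right).toEquiv,
      inf_subgroupOf_right]
    exact card_mul_index _
  rw [show X ⊓ (V ⊓ centralizer (A : Set G)) = X ⊓ centralizer (A : Set G) by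
    rw [← inf_assoc, inf_eq_left.2 hXV], ← e X] at h3
  have h4 : Nat.card (X ⊔ V ⊓ centralizer (A : Set G) : Subgroup G) =
      mv A X * Nat.card (V ⊓ centralizer (A : Set G) : Subgroup G) := by
    refine Nat.eq_of_mul_eq_mul_right (Nat.card_pos (α := (X ⊓ centralizer (A : Set G) : Subgroup G))) ?_
    rw [h3]; ring
  rw [h4, ← e V, mul_comm]
  exact Nat.mul_le_mul_right _ h

/-- Quadratic action on `X` spreads to `X C_V(A)`. -/
theorem quad_of_sup {A X V : Subgroup G} (hc : IsMulCommutative V) (hN : A ≤ normalizer (V : Set G))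
    (hXV : X ≤ V) (h : mv A V ≤ mv A X) (hq : Quad X A) : Quad V A := by
  refine Quad.of_le_quadSet (hV := hc) (hN := hN) ?_
  refine le_of_eq_of_le (sup_fixed_eq hc hXV h).symm (sup_le (fun w hw => ⟨hXV hw, fun a ha b hb => hq w hw a ha b hb⟩) fun w hw =>
    ⟨hw.1, fun a ha b _ => ?_⟩)
  rw [mem_centralizer_iff.1 hw.2 a ha]
  group

/-- Quadratic action from a hyperplane and an involution. -/
theorem quad_of_cover {A A1 V : Subgroup G} {a : G} (hc : IsMulCommutative V) (hact : ElemAct V A)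
    (ha : a ∈ A) (hA1 : A1 ≤ A) (hcov : ∀ x ∈ A, x ∈ A1 ∨ a⁻¹ * x ∈ A1)
    (hV : Cfsg.IsElementaryAbelian 2 V)
    (h : ∀ v ∈ V, ∀ b ∈ A1, ∀ x ∈ A, x * (b * v * b⁻¹ * v⁻¹) * x⁻¹ = b * v * b⁻¹ * v⁻¹) :
    Quad V A := by
  haveI := hc
  have ha2 : ∀ v ∈ V, a * (a * v * a⁻¹ * v⁻¹) * a⁻¹ = a * v * a⁻¹ * v⁻¹ := by
    intro v hv
    have hd : a * v * a⁻¹ * v⁻¹ ∈ V := V.mul_mem (hact.conj_mem ha hv) (V.inv_mem hv)
    calc a * (a * v * a⁻¹ * v⁻¹) * a⁻¹ = (a * (a * v * a⁻¹) * a⁻¹) * (a * v * a⁻¹)⁻¹ := by group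
      _ = (a * v * a⁻¹ * v⁻¹)⁻¹ := by rw [hact.sq_fix ha hv]; group
      _ = _ := inv_eq_of_mul_eq_one_left (elemAb_mul_self hV hd)
  have hab : ∀ v ∈ V, ∀ b ∈ A1, b * (a * v * a⁻¹ * v⁻¹) * b⁻¹ = a * v * a⁻¹ * v⁻¹ := by
    intro v hv b hb
    set d := b * v * b⁻¹ * v⁻¹
    have hd : d ∈ V := V.mul_mem (hact.conj_mem (hA1 hb) hv) (V.inv_mem hv)
    calc b * (a * v * a⁻¹ * v⁻¹) * b⁻¹ = (b * (a * v * a⁻¹) * b⁻¹) * (b * v * b⁻¹)⁻¹ := by group
      _ = (a * (b * v * b⁻¹) * a⁻¹) * (b * v * b⁻¹)⁻¹ := by rw [hact.comm ha (hA1 hb) hv]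
      _ = (a * d * a⁻¹) * ((a * v * a⁻¹ * v⁻¹) * d⁻¹) := by simp only [d]; group
      _ = d * (d⁻¹ * (a * v * a⁻¹ * v⁻¹)) := by
        rw [h v hv b hb a ha,
          setLike_mul_comm (V.mul_mem (hact.conj_mem ha hv) (V.inv_mem hv)) (V.inv_mem hd)]
      _ = _ := by group
  -- the elements fixing all commutators
  have hfix : ∀ v ∈ V, ∀ x ∈ A, ∀ z ∈ A, x * (z * v * z⁻¹ * v⁻¹) * x⁻¹ = z * v * z⁻¹ * v⁻¹ := by
    intro v hv x hx z hz
    have haz : ∀ x ∈ A, x * (a * v * a⁻¹ * v⁻¹) * x⁻¹ = a * v * a⁻¹ * v⁻¹ := by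
      intro x hx
      rcases hcov x hx with hx' | hx'
      · exact hab v hv x hx'
      · calc x * (a * v * a⁻¹ * v⁻¹) * x⁻¹
            = a * ((a⁻¹ * x) * (a * v * a⁻¹ * v⁻¹) * (a⁻¹ * x)⁻¹) * a⁻¹ := by group
          _ = _ := by rw [hab v hv _ hx', ha2 v hv]
    rcases hcov z hz with hz' | hz'
    · exact h v hv z hz' x hx
    · obtain ⟨b, hb, rfl⟩ : ∃ b ∈ A1, z = a * b := ⟨_, hz', by group⟩
      have e : a * b * v * (a * b)⁻¹ * v⁻¹ = (b * v * b⁻¹ * v⁻¹) * (a * v * a⁻¹ * v⁻¹) := by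
        calc a * b * v * (a * b)⁻¹ * v⁻¹ = (a * (b * v * b⁻¹ * v⁻¹) * a⁻¹) * (a * v * a⁻¹ * v⁻¹) := by group
          _ = _ := by rw [h v hv b hb a ha]
      rw [e]
      calc x * ((b * v * b⁻¹ * v⁻¹) * (a * v * a⁻¹ * v⁻¹)) * x⁻¹
          = (x * (b * v * b⁻¹ * v⁻¹) * x⁻¹) * (x * (a * v * a⁻¹ * v⁻¹) * x⁻¹) := by group
        _ = _ := by rw [h v hv b hb x hx, haz x hx]
  exact fun v hv z hz x hx => hfix v hv x hx z hz

/-- The conjugates of `W` and their join. -/
def closureJoin (W : Subgroup G) : Subgroup G := ⨆ g : G, cj g W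

omit [Finite G] in
theorem le_closureJoin (W : Subgroup G) : W ≤ closureJoin W :=
  (cj_one W).ge.trans (le_iSup (fun g : G => cj g W) 1)

theorem closureJoin_normal (W : Subgroup G) : (closureJoin W).Normal := by
  refine normalizer_eq_top_iff.1 (top_le_iff.1 fun g _ => cj_eq_self_iff.1 ?_)
  refine eq_of_le_of_card_ge ?_ (card_map_of_injective (MulAut.conj g).injective).ge
  rw [closureJoin, cj_iSup]
  exact iSup_le fun h => by rw [cj_cj]; exact le_iSup (fun g : G => cj g W) (g * h)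

section Main

variable {S : Sylow 2 G} {W : Subgroup G}

theorem closureJoin_facts (hsol : Group.IsSolvable G)
    (hchar : centralizer (Cfsg.pCore 2 G : Set G) ≤ Cfsg.pCore 2 G)
    (hW : Cand (S : Subgroup G) W) (hM : Maxi S (normalizer (W : Set G))) :
    Cfsg.IsElementaryAbelian 2 (closureJoin W) ∧ closureJoin W ≤ Cfsg.pCore 2 G ∧
      NoOff (Cfsg.pCore 2 G) (closureJoin W) ∧
      (∀ g, NoOff (cj g (S : Subgroup G)) (cj g W)) ∧
      (S : Subgroup G) ⊓ centralizer (closureJoin W : Set G) ≤ Cfsg.pCore 2 G := by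
  set Q := Cfsg.pCore 2 G
  haveI : Q.Normal := Cores.pCore_normal 2 G
  have hWQ := cand_le_pCore hsol hchar hW hM
  have hQS : Q ≤ (S : Subgroup G) := Cores.pCore_le_sylow S
  have hQN : ∀ g, Q ≤ normalizer ((cj g W : Subgroup G) : Set G) :=
    le_normalizer_cj (hQS.trans hW.normal)
  have hcjQ : ∀ g : G, cj g Q = Q := fun g =>
    cj_eq_self_iff.2 (le_normalizer_of_normal (K := ⊤) (mem_top g))
  have hWgQ : ∀ g, cj g W ≤ Q := fun g => (map_mono hWQ).trans (hcjQ g).le
  have hno : ∀ g, NoOff Q (cj g W) := fun g =>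
    (noOff_cj g hW.noOff).mono ((hcjQ g).ge.trans (map_mono hQS))
  have helem : Cfsg.IsElementaryAbelian 2 (closureJoin W) :=
    PLocal.elemAb_iSup _ (fun g => elemAb_cj g hW.elem) fun g h =>
      commute_of_noOff (elemAb_cj h hW.elem) (elemAb_cj g hW.elem) (hno h) (hno g) (hWgQ g) (hWgQ h)
        ((hWgQ g).trans (hQN h)) ((hWgQ h).trans (hQN g))
  refine ⟨helem, iSup_le hWgQ, ?_, fun g => noOff_cj g hW.noOff, ?_⟩
  · have := (NoOff.iSup helem (Set.range fun g : G => cj g W) (by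
      rintro _ ⟨g, rfl⟩
      exact ⟨le_iSup (fun g : G => cj g W) g, hQN g, hno g⟩)).1
    rwa [sSup_range] at this
  · haveI : (closureJoin W).Normal := closureJoin_normal W
    exact hM.inf_le_pCore (N := centralizer (closureJoin W : Set G))
      ((centralizer_le (SetLike.coe_subset_coe.2 (le_closureJoin W))).trans (centralizer_le_normalizer _))

theorem exists_pair (hsol : Group.IsSolvable G)
    (hchar : centralizer (Cfsg.pCore 2 G : Set G) ≤ Cfsg.pCore 2 G)
    (hW : Cand (S : Subgroup G) W) (hM : Maxi S (normalizer (W : Set G)))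
    {A : Subgroup G} (hA : A ≤ (S : Subgroup G)) (hact : ElemAct (closureJoin W) A)
    (hAQ : ¬ A ≤ Cfsg.pCore 2 G) :
    ∃ (a y : G) (A1 : Subgroup G), Pair W A A1 (Cfsg.pCore 2 G) a y ∧
      orbitJoin W y ≤ closureJoin W ∧ Cfsg.IsElementaryAbelian 2 (orbitJoin W y) ∧
      ElemAct (orbitJoin W y) A ∧ NoOff (A1 ⊔ Cfsg.pCore 2 G) (orbitJoin W y) ∧
      A1 ⊔ Cfsg.pCore 2 G ≤ normalizer ((orbitJoin W y : Subgroup G) : Set G) ∧
      (∀ n, NoOff A1 (cj (y ^ n) W)) := by
  obtain ⟨helem, -, -, hno, hCQ⟩ := closureJoin_facts hsol hchar hW hM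
  set Q := Cfsg.pCore 2 G
  haveI : Q.Normal := Cores.pCore_normal 2 G
  have hsq : ∀ x ∈ A, x * x ∈ Q := fun x hx =>
    hCQ ⟨(S : Subgroup G).mul_mem (hA hx) (hA hx), hact.2 x hx⟩
  obtain ⟨a, ha, A1, hA1, -, hcov, -, y, hyo, hyM, hay, hby⟩ := hM.exists_split hsol hA hAQ hsq
  have hQS : Q ≤ (S : Subgroup G) := Cores.pCore_le_sylow S
  have hP : Pair W A A1 Q a y :=
    ⟨inferInstance, ha, hA1, hcov, hA.trans hW.normal, hQS.trans hW.normal, hsq, hyo, hyM, hay, hby⟩
  have hle : orbitJoin W y ≤ closureJoin W := iSup_le fun n => le_iSup (fun g : G => cj g W) (y ^ n)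
  have hV1 := PLocal.elemAb_mono helem hle
  have hR : ∀ n, A1 ⊔ Q ≤ cj (y ^ n) (S : Subgroup G) := fun n =>
    (cj_eq_self_iff.2 (pow_mem (hP.sup_norm (Or.inr rfl)) n)).ge.trans
      (map_mono (sup_le (hA1.trans hA) hQS))
  have hnorm : ∀ n, A1 ⊔ Q ≤ normalizer ((cj (y ^ n) W : Subgroup G) : Set G) := fun n =>
    sup_le (hP.A1_norm_cj n) (le_normalizer_cj (hQS.trans hW.normal) _)
  have hall := NoOff.iSup (R := A1 ⊔ Q) hV1 (Set.range fun n : ℕ => cj (y ^ n) W) (by
    rintro _ ⟨n, rfl⟩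
    exact ⟨le_iSup (fun n : ℕ => cj (y ^ n) W) n, hnorm n, (hno _).mono (hR n)⟩)
  rw [sSup_range] at hall
  exact ⟨a, y, A1, hP, hle, hV1, hact.restrict hle hP.A_normV, hall.1, hall.2,
    fun n => (hno _).mono (le_sup_left.trans (hR n))⟩

/-- No offenders on the normal closure. -/
theorem no_offender (hsol : Group.IsSolvable G) (hS4 : ¬ Cfsg.Involves (Equiv.Perm (Fin 4)) G)
    (hchar : centralizer (Cfsg.pCore 2 G : Set G) ≤ Cfsg.pCore 2 G)
    (hW : Cand (S : Subgroup G) W) (hM : Maxi S (normalizer (W : Set G)))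
    {A : Subgroup G} (hA : A ≤ (S : Subgroup G)) (hact : ElemAct (closureJoin W) A)
    (hne : ¬ A ≤ centralizer (closureJoin W : Set G)) :
    mv (closureJoin W) A < mv A (closureJoin W) := by
  obtain ⟨-, -, hnoQ, -, -⟩ := closureJoin_facts hsol hchar hW hM
  by_contra hle
  rw [not_lt] at hle
  -- an offender of largest value
  obtain ⟨A₀, ⟨hA₀, hact₀, hne₀⟩, hmax⟩ := Set.exists_max_image
    {B : Subgroup G | B ≤ (S : Subgroup G) ∧ ElemAct (closureJoin W) B ∧ ¬ B ≤ centralizer ((closureJoin W) : Set G)}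
    (fun B => mv (closureJoin W) B * Nat.card (centralizer (B : Set G) ⊓ (closureJoin W) : Subgroup G)) (Set.toFinite _) ⟨A, hA, hact, hne⟩
  have hcard : ∀ B : Subgroup G,
      Nat.card (centralizer (B : Set G) ⊓ (closureJoin W) : Subgroup G) * mv B (closureJoin W) = Nat.card (closureJoin W) := by
    intro B
    rw [mv, relIndex, ← Nat.card_congr (subgroupOfEquivOfLe inf_le_right).toEquiv, inf_subgroupOf_right]
    exact card_mul_index _
  have hpos : ∀ B : Subgroup G, 0 < Nat.card (centralizer (B : Set G) ⊓ (closureJoin W) : Subgroup G) := fun B => Nat.card_pos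
  have hval₀ : mv A₀ (closureJoin W) ≤ mv (closureJoin W) A₀ := by
    have h1 := hmax A ⟨hA, hact, hne⟩
    have h2 := Nat.mul_le_mul_right (Nat.card (centralizer (A : Set G) ⊓ (closureJoin W) : Subgroup G)) hle
    rw [mul_comm (mv A (closureJoin W)), hcard A] at h2
    have h3 := h2.trans h1
    rw [← hcard A₀, mul_comm (Nat.card _)] at h3
    exact Nat.le_of_mul_le_mul_right h3 (hpos A₀)
  have hrestrict : ∀ V1 ≤ (closureJoin W), mv A₀ V1 ≤ mv V1 A₀ := by
    intro V1 hV1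
    refine mv_le_of_best hV1 ?_
    set K := A₀ ⊓ centralizer (V1 : Set G)
    by_cases hK : K ≤ centralizer ((closureJoin W) : Set G)
    · rw [mv_eq_one_iff.2 (PLocal.le_centralizer_comm hK), mv_eq_one_iff.2 hK, one_mul, mul_one]
      exact hval₀
    · have h1 := hmax K ⟨inf_le_left.trans hA₀, hact₀.mono inf_le_left, hK⟩
      have h2 := Nat.mul_le_mul_right (mv A₀ (closureJoin W) * mv K (closureJoin W)) h1
      have e1 : mv (closureJoin W) K * Nat.card (centralizer (K : Set G) ⊓ (closureJoin W) : Subgroup G) * (mv A₀ (closureJoin W) * mv K (closureJoin W))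
          = Nat.card (closureJoin W) * (mv (closureJoin W) K * mv A₀ (closureJoin W)) := by rw [← hcard K]; ring
      have e2 : mv (closureJoin W) A₀ * Nat.card (centralizer (A₀ : Set G) ⊓ (closureJoin W) : Subgroup G) * (mv A₀ (closureJoin W) * mv K (closureJoin W))
          = Nat.card (closureJoin W) * (mv (closureJoin W) A₀ * mv K (closureJoin W)) := by rw [← hcard A₀]; ring
      rw [e1, e2] at h2
      exact Nat.le_of_mul_le_mul_left h2 Nat.card_pos
  by_cases hAQ : A₀ ≤ Cfsg.pCore 2 G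
  · exact absurd ((hnoQ A₀ hAQ hact₀ hne₀).1) (not_lt.2 hval₀)
  have hWA : A₀ ≤ centralizer (W : Set G) := by
    by_contra hne'
    exact absurd (hW.noOff A₀ hA₀ (hact₀.restrict (le_closureJoin W) (hA₀.trans hW.normal)) hne').1
      (not_lt.2 (hrestrict W (le_closureJoin W)))
  obtain ⟨a, y, A1, hP, hle1, hV1, hact1, hno1, hQV, hno'⟩ := exists_pair hsol hchar hW hM hA₀ hact₀ hAQ
  exact absurd (hP.not_offender hS4 hV1 hact1 hno1 hQV hno' hWA) (not_lt.2 (hrestrict _ hle1))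

/-- **No offenders on the normal closure**, and margin one forces quadratic action. -/
theorem noOff_normalClosure (hsol : Group.IsSolvable G) (hS4 : ¬ Cfsg.Involves (Equiv.Perm (Fin 4)) G)
    (hchar : centralizer (Cfsg.pCore 2 G : Set G) ≤ Cfsg.pCore 2 G)
    (hW : Cand (S : Subgroup G) W) (hM : Maxi S (normalizer (W : Set G))) :
    NoOff (S : Subgroup G) (closureJoin W) := by
  intro A hA hact hne
  refine ⟨no_offender hsol hS4 hchar hW hM hA hact hne, fun hle => ?_⟩
  obtain ⟨helem, -, hnoQ, -, -⟩ := closureJoin_facts hsol hchar hW hM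
  haveI := helem.1
  have hlt := no_offender hsol hS4 hchar hW hM hA hact hne
  -- a subgroup with a kernel is an offender there
  have hrestrict : ∀ V1 ≤ (closureJoin W), ¬ A ⊓ centralizer (V1 : Set G) ≤ centralizer ((closureJoin W) : Set G) →
      mv A V1 ≤ mv V1 A := by
    intro V1 hV1 hK
    refine mv_le_of_best hV1 ?_
    set K := A ⊓ centralizer (V1 : Set G)
    have h1 := two_mul_le_of_lt (mv_pow' (hact.mono inf_le_left)) (mv_pow _ (isPGroup_elemAb helem))
      (no_offender hsol hS4 hchar hW hM (inf_le_left.trans hA) (hact.mono inf_le_left) hK)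
    calc mv (closureJoin W) K * mv A (closureJoin W) ≤ mv (closureJoin W) K * (2 * mv (closureJoin W) A) := Nat.mul_le_mul_left _ hle
      _ = mv (closureJoin W) A * (2 * mv (closureJoin W) K) := by ring
      _ ≤ _ := Nat.mul_le_mul_left _ h1
  by_cases hWA : A ≤ centralizer (W : Set G)
  swap
  · have hactW := hact.restrict (le_closureJoin W) (hA.trans hW.normal)
    obtain ⟨hltW, hqW⟩ := hW.noOff A hA hactW hWA
    by_cases hK : A ⊓ centralizer (W : Set G) ≤ centralizer ((closureJoin W) : Set G)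
    · have e := mv_eq_of_le (A := A) (le_closureJoin W)
      rw [mv_eq_one_iff.2 (PLocal.le_centralizer_comm hK), one_mul] at e
      have h1 : mv A W ≤ mv A (closureJoin W) := mv_le_right (le_closureJoin W)
      have h2 := two_mul_le_of_lt (mv_pow' hactW) (mv_pow _ (isPGroup_elemAb hW.elem)) hltW
      refine quad_of_sup helem.1 hact.1 (le_closureJoin W) ?_ (hqW ?_)
      · omega
      · omega
    · exact absurd hltW (not_lt.2 (hrestrict W (le_closureJoin W) hK))
  by_cases hAQ : A ≤ Cfsg.pCore 2 G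
  · exact (hnoQ A hAQ hact hne).2 hle
  obtain ⟨a, y, A1, hP, hle1, hV1, hact1, hno1, hQV, hno'⟩ := exists_pair hsol hchar hW hM hA hact hAQ
  haveI := hV1.1
  have hlt1 := hP.not_offender hS4 hV1 hact1 hno1 hQV hno' hWA
  have hK : A ⊓ centralizer ((orbitJoin W y) : Set G) ≤ centralizer ((closureJoin W) : Set G) := by
    by_contra hK
    exact absurd hlt1 (not_lt.2 (hrestrict (orbitJoin W y) hle1 hK))
  have e := mv_eq_of_le (A := A) hle1
  rw [mv_eq_one_iff.2 (PLocal.le_centralizer_comm hK), one_mul] at e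
  have hp1 := two_mul_le_of_lt (mv_pow' hact1) (mv_pow _ (isPGroup_elemAb hV1)) hlt1
  have hx1 : mv A (orbitJoin W y) ≤ mv A (closureJoin W) := mv_le_right hle1
  refine quad_of_sup helem.1 hact.1 hle1 (by omega) ?_
  -- quadratic on the orbit join
  refine quad_of_cover hV1.1 hact1 hP.a_mem hP.le hP.cover hV1 ?_
  by_cases hA1 : A1 ≤ centralizer ((orbitJoin W y) : Set G)
  · intro v hv b hb x _
    rw [fix_of_mem_centralizer (hA1 hb) hv]
    group
  by_cases hsingle : ∃ n, mv A1 (orbitJoin W y) ≤ mv A1 (cj (y ^ n) W)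
  · obtain ⟨n, hn⟩ := hsingle
    intro v hv b hb x hx
    exact fix_of_mem_centralizer (hWA hx) (hP.comm_mem hV1 hact1 hWA hn v hv b hb).1
  push Not at hsingle
  have hidx := relIndex_le_two hP.cover hP.a_mem
  have hk2 : mv (orbitJoin W y) A ≤ 2 * mv (orbitJoin W y) A1 := mv_le_two_mul hP.le hidx (orbitJoin W y)
  have hactA1 : ElemAct (orbitJoin W y) A1 := hact1.mono hP.le
  have hA1x : mv A1 (orbitJoin W y) ≤ mv A (orbitJoin W y) :=
    relIndex_le_of_le_left (centralizer_le (SetLike.coe_subset_coe.2 hP.le)) Subgroup.index_ne_zero_of_finite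
  have hpW : ∀ n, ¬ A1 ≤ centralizer ((cj (y ^ n) W : Subgroup G) : Set G) →
      4 * mv (orbitJoin W y) A1 ≤ mv A1 (orbitJoin W y) ∧ (mv A1 (orbitJoin W y) ≤ 4 * mv (orbitJoin W y) A1 → Quad (cj (y ^ n) W) A1) := by
    intro n hn
    have hWV : (cj (y ^ n) W) ≤ (orbitJoin W y) := le_iSup (fun n => cj (y ^ n) W) n
    have hactW' : ElemAct (cj (y ^ n) W) A1 := hactA1.restrict hWV (hP.A1_norm_cj n)
    obtain ⟨hltW, hqW⟩ := hno' n A1 le_rfl hactW' hn
    have hWel : IsPGroup 2 (cj (y ^ n) W) := isPGroup_elemAb (PLocal.elemAb_mono hV1 hWV)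
    have h2 := two_mul_le_of_lt (mv_pow' hactW') (mv_pow _ hWel) hltW
    have h3 := two_mul_le_of_lt (mv_pow _ hWel) (mv_pow _ (isPGroup_elemAb hV1)) (hsingle n)
    have hs := mv_eq_of_le (A := A1) hWV
    set K := A1 ⊓ centralizer ((cj (y ^ n) W) : Set G)
    by_cases hKV : K ≤ centralizer ((orbitJoin W y) : Set G)
    · rw [mv_eq_one_iff.2 (PLocal.le_centralizer_comm hKV), one_mul] at hs
      exact ⟨by omega, fun h => hqW (by omega)⟩
    · have hactK : ElemAct (orbitJoin W y) K := hactA1.mono inf_le_left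
      have h4 := two_mul_le_of_lt (mv_pow' hactK) (mv_pow _ (isPGroup_elemAb hV1))
        (hno1 K (inf_le_left.trans le_sup_left) hactK hKV).1
      have h5 : mv A1 (cj (y ^ n) W) * mv K (orbitJoin W y) ≤ mv A1 (orbitJoin W y) := mv_mul_le inf_le_left hWV inf_le_right
      refine ⟨?_, fun h => hqW ?_⟩
      · calc 4 * mv (orbitJoin W y) A1 = (2 * mv (cj (y ^ n) W) A1) * (2 * mv (orbitJoin W y) K) := by rw [hs]; ring
          _ ≤ _ := (Nat.mul_le_mul h2 h4).trans h5
      · have h6 : mv A1 (cj (y ^ n) W) * (2 * mv (orbitJoin W y) K) ≤ 4 * (mv (orbitJoin W y) K * mv (cj (y ^ n) W) A1) :=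
          ((Nat.mul_le_mul_left _ h4).trans h5).trans (hs ▸ h)
        have h7 := mv_pos (orbitJoin W y) K
        nlinarith
  obtain ⟨n₀, hn₀⟩ : ∃ n, ¬ A1 ≤ centralizer ((cj (y ^ n) W : Subgroup G) : Set G) := by
    by_contra hno
    push Not at hno
    refine hA1 ?_
    rw [show (orbitJoin W y) = ⨆ n, cj (y ^ n) W from rfl, PLocal.centralizer_iSup]
    exact le_iInf hno
  have h4 := (hpW n₀ hn₀).1
  have heq : mv A1 (orbitJoin W y) ≤ 4 * mv (orbitJoin W y) A1 ∧ mv A (orbitJoin W y) ≤ mv A1 (orbitJoin W y) := by omega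
  have hquad : Quad (orbitJoin W y) A1 := by
    refine Quad.of_le_quadSet (hV := hV1.1) (hN := hactA1.1) (iSup_le fun n => ?_)
    have hW'V : cj (y ^ n) W ≤ (orbitJoin W y) := le_iSup (fun n => cj (y ^ n) W) n
    refine fun w hw => ⟨hW'V hw, fun c hc b hb => ?_⟩
    by_cases hn : A1 ≤ centralizer ((cj (y ^ n) W : Subgroup G) : Set G)
    · rw [fix_of_mem_centralizer (hn hc) hw]; group
    · exact (hpW n hn).2 heq.1 w hw c hc b hb
  have hfix : (orbitJoin W y) ⊓ centralizer (A1 : Set G) ≤ centralizer (A : Set G) :=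
    inf_le_of_relIndex_le (centralizer_le (SetLike.coe_subset_coe.2 hP.le)) heq.2
  intro v hv b hb x hx
  have hd : b * v * b⁻¹ * v⁻¹ ∈ (orbitJoin W y) ⊓ centralizer (A1 : Set G) :=
    ⟨(orbitJoin W y).mul_mem (hactA1.conj_mem hb hv) ((orbitJoin W y).inv_mem hv), mem_centralizer_iff.2 fun c hc =>
      mul_inv_eq_iff_eq_mul.1 (hquad v hv b hb c hc)⟩
  rw [mem_centralizer_iff.1 (hfix hd) x hx, mul_inv_cancel_right]

end Main

end Cfsg.Agent.StellmacherW
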