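/-
An elementary subgroup `W(S)` for solvable `S₄`-free groups (helper70): the main theorem.

* `WOf S`: the greatest elementary abelian normal subgroup of the 2-group `S` without offenders in `S`
* `WOf_ne_bot`, `WOf_le`, `map_WOf`, `normalizer_le_normalizer_WOf`
* `WOf_normal`: it is normal in every solvable `S₄`-free group of characteristic two with Sylow subgroup `S`
-/
import Cfsg.Agent.Lib.StellmacherW.Margin
import Cfsg.Agent.Lib.PLocal.Functor
import Cfsg.Agent.Lib.Involves.Basic

set_option autoImplicit false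
set_option linter.style.haveILetI false

universe u

namespace Cfsg.Agent.StellmacherW

open Subgroup

variable {G : Type*} [Group G] [Finite G]

theorem cand_bot (S : Subgroup G) : Cand S ⊥ :=
  ⟨bot_le, fun g _ => mem_normalizer_iff.2 fun x => by simp [mem_bot], PLocal.elemAb_bot, noOff_bot S⟩

theorem Cand.sup {S W W' : Subgroup G} (h : Cand S W) (h' : Cand S W') : Cand S (W ⊔ W') := by
  have hc := commute_of_noOff h.elem h'.elem h.noOff h'.noOff h'.le h.le (h'.le.trans h.normal)
    (h.le.trans h'.normal)
  have he := PLocal.elemAb_sup h.elem h'.elem (PLocal.le_centralizer_comm hc)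
  exact ⟨sup_le h.le h'.le, (le_inf h.normal h'.normal).trans (Cores.normalizer_inf_le_normalizer_sup _ _),
    he, NoOff.sup he h.normal h'.normal h.noOff h'.noOff⟩

/-- The greatest elementary abelian normal subgroup of `S` without offenders in `S`. -/
def WOf (S : Subgroup G) : Subgroup G := sSup {W | Cand S W}

theorem cand_WOf (S : Subgroup G) : Cand S (WOf S) := by
  have : ∀ s : Set (Subgroup G), (∀ W ∈ s, Cand S W) → Cand S (sSup s) := by
    intro s
    induction s, s.toFinite using Set.Finite.induction_on with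
    | empty => intro; rw [sSup_empty]; exact cand_bot S
    | @insert W s _ _ ih =>
      intro hs
      rw [sSup_insert]
      exact (hs W (Set.mem_insert W s)).sup (ih fun X hX => hs X (Set.mem_insert_of_mem W hX))
  exact this _ fun _ h => h

theorem WOf_le (S : Subgroup G) : WOf S ≤ S := (cand_WOf S).le

theorem le_WOf {S W : Subgroup G} (h : Cand S W) : W ≤ WOf S := le_sSup h

theorem cand_map_iff {H : Type*} [Group H] [Finite H] {f : G →* H} (hf : Function.Injective f)
    {S W : Subgroup G} : Cand (S.map f) (W.map f) ↔ Cand S W :=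
  ⟨fun h => ⟨(map_le_map_iff_of_injective hf).1 h.le, (normalizer_map_iff hf).1 h.normal,
      (PLocal.elemAb_map_iff hf).1 h.elem, (noOff_map_iff hf).1 h.noOff⟩,
    fun h => ⟨map_mono h.le, (normalizer_map_iff hf).2 h.normal, PLocal.elemAb_map f h.elem,
      (noOff_map_iff hf).2 h.noOff⟩⟩

/-- `W(S)` is functorial. -/
theorem map_WOf {H : Type*} [Group H] [Finite H] {f : G →* H} (hf : Function.Injective f)
    (S : Subgroup G) : (WOf S).map f = WOf (S.map f) := by
  refine le_antisymm (le_WOf ((cand_map_iff hf).2 (cand_WOf S))) ?_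
  have e : ((WOf (S.map f)).comap f).map f = WOf (S.map f) :=
    map_comap_eq_self ((WOf_le _).trans (map_le_range f S))
  rw [← e]
  refine map_mono (le_WOf ((cand_map_iff hf).1 ?_))
  rw [e]
  exact cand_WOf _

theorem normalizer_le_normalizer_WOf (S : Subgroup G) :
    normalizer (S : Set G) ≤ normalizer ((WOf S : Subgroup G) : Set G) := fun g hg => by
  refine cj_eq_self_iff.1 ?_
  have h1 := map_WOf (f := (MulAut.conj g).toMonoidHom) (MulAut.conj g).injective S
  have h2 : S.map (MulAut.conj g).toMonoidHom = S := cj_eq_self_iff.2 hg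
  rw [h2] at h1
  exact h1

theorem WOf_ne_bot {S : Subgroup G} (hS : IsPGroup 2 S) (hne : S ≠ ⊥) : WOf S ≠ ⊥ := by
  haveI : Fact (Nat.Prime 2) := ⟨Nat.prime_two⟩
  haveI : Nontrivial S := (nontrivial_iff_ne_bot S).2 hne
  haveI := hS.center_nontrivial
  obtain ⟨z, hz⟩ := exists_prime_orderOf_dvd_card' (G := center S) 2 (by
    obtain ⟨n, hn⟩ := IsPGroup.iff_card.1 (hS.to_subgroup (center S))
    rw [hn]
    refine dvd_pow_self 2 fun h0 => ?_
    rw [h0, pow_zero, Nat.card_eq_one_iff_unique] at hn
    exact not_subsingleton (center S) hn.1)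
  set g : G := ((z : S) : G)
  have hg2 : g ^ 2 = 1 := by
    have h1 : z ^ 2 = 1 := orderOf_dvd_iff_pow_eq_one.1 (hz ▸ dvd_rfl)
    simpa [g] using congrArg (fun x : center S => ((x : S) : G)) h1
  have hg1 : g ≠ 1 := fun h => by
    have h' : z = 1 := Subtype.ext (Subtype.ext h)
    rw [h', orderOf_one] at hz
    norm_num at hz
  have hcomm : ∀ s ∈ S, ∀ x ∈ zpowers g, s * x * s⁻¹ = x := by
    intro s hs x hx
    obtain ⟨k, rfl⟩ := mem_zpowers_iff.1 hx
    have h1 : Commute s g := congrArg Subtype.val (mem_center_iff.1 z.2 ⟨s, hs⟩)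
    rw [(h1.zpow_right k).eq, mul_inv_cancel_right]
  have hc : Cand S (zpowers g) := by
    refine ⟨zpowers_le.2 (z : S).2, fun s hs => mem_normalizer_iff.2 fun x => ⟨fun hx => ?_, fun hx => ?_⟩,
      PLocal.elemAb_zpowers hg2, fun A hA _ hne' => absurd (le_centralizer_iff_fix.2 fun a ha x hx =>
        hcomm a (hA ha) x hx) hne'⟩
    · rw [hcomm s hs x hx]; exact hx
    · have := hcomm s⁻¹ (S.inv_mem hs) _ hx
      have e : s⁻¹ * (s * x * s⁻¹) * s⁻¹⁻¹ = x := by group
      rw [e] at this
      rwa [this]
  intro h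
  have := le_WOf hc (mem_zpowers g)
  rw [h, mem_bot] at this
  exact hg1 this

/-- **`W(S)` is normal** in a solvable `S₄`-free group of characteristic two. -/
theorem WOf_normal {G : Type u} [Group G] [Finite G] (hsol : Group.IsSolvable G)
    (hS4 : ¬ Cfsg.Involves (Equiv.Perm (Fin 4)) G)
    (hchar : centralizer (Cfsg.pCore 2 G : Set G) ≤ Cfsg.pCore 2 G) (S : Sylow 2 G) :
    (WOf (S : Subgroup G)).Normal := by
  induction hn : Nat.card G using Nat.strong_induction_on generalizing G with
  | _ n ih =>
    set W := WOf (S : Subgroup G)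
    have hcand : Cand (S : Subgroup G) W := cand_WOf _
    by_contra hnn
    have hM : Maxi S (normalizer (W : Set G)) := by
      refine ⟨hcand.normal, fun h => hnn (normalizer_eq_top_iff.1 h), fun K hSK hK => ?_⟩
      have hlt : Nat.card K < n := hn ▸ Solvable.card_lt_of_ne_top hK
      haveI : (Cfsg.pCore 2 G).Normal := Cores.pCore_normal 2 G
      have hQK : Cfsg.pCore 2 G ≤ K := (Cores.pCore_le_sylow S).trans hSK
      have hQ : (Cfsg.pCore 2 G).subgroupOf K ≤ Cfsg.pCore 2 K :=
        Cores.le_pCore inferInstance ((Cores.isPGroup_pCore 2 G).comap_subtype)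
      have hcharK : centralizer (Cfsg.pCore 2 K : Set K) ≤ Cfsg.pCore 2 K := fun c hc => by
        refine hQ (mem_subgroupOf.2 (hchar (mem_centralizer_iff.2 fun x hx => ?_)))
        exact congrArg Subtype.val (mem_centralizer_iff.1 hc ⟨x, hQK hx⟩ (hQ (mem_subgroupOf.2 hx)))
      have hsolK : Group.IsSolvable K := Group.isSolvable_of_isSolvable_injective K.subtype_injective
      have hnor := ih _ hlt hsolK (fun h => hS4 (Involves.involves_of_subgroup h)) hcharK
        (S.subtype hSK) rfl
      have e : (WOf ((S.subtype hSK : Sylow 2 K) : Subgroup K)).map K.subtype = W := by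
        rw [map_WOf K.subtype_injective, Sylow.coe_subtype, subgroupOf_map_subtype, inf_eq_left.2 hSK]
      rw [← e]
      refine le_trans ?_ (le_normalizer_map K.subtype)
      rw [normalizer_eq_top_iff.2 hnor, ← MonoidHom.range_eq_map, range_subtype]
    obtain ⟨helem, hleQ, -, -, -⟩ := closureJoin_facts hsol hchar hcand hM
    haveI := closureJoin_normal W
    have h1 : Cand (S : Subgroup G) (closureJoin W) :=
      ⟨hleQ.trans (Cores.pCore_le_sylow S), le_normalizer_of_normal,
        helem, noOff_normalClosure hsol hS4 hchar hcand hM⟩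
    have h2 : closureJoin W = W := le_antisymm (le_WOf h1) (le_closureJoin W)
    exact hnn (h2 ▸ closureJoin_normal W)

end Cfsg.Agent.StellmacherW
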